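import Cfsg.Agent.Characters.Core
import Cfsg.Agent.H670.PSing
import Mathlib.Data.Sym.Card
import Cfsg.Agent.Lib.BitNetSimple
import Cfsg.Agent.Prune
set_option linter.all false

section
prune_inst 0x7f00000000000000000000000000000000000000000000000000000000000000000000000000000000000000000000000000000000000000000000000000000000000000000000000000000000000000003fffffffffffffffffffffffffffaeffbdfbfeffff

-- part: H678/DG/Sph
section
prune_inst 0x10000004010000
set_option linter.all false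
open scoped Cfsg.Agent.FastGrp

/-!
# Degrees of irreducible characters from spherical functions (helper678)

`G` acts transitively on the finite set `X`.

* `exists_of_spherical` : `V` is a `G`-invariant space of functions on `X` and the functions of `V` fixed by the
  stabiliser of `x₀` are the multiples of `v`, `v x₀ = 1`. Then `V` affords an irreducible character of degree
  `|X| / ∑ |v x| ^ 2`.
* `exists_of_kernel` : the case of an eigenspace of an invariant kernel (a weighted relation): `B` is the collapsed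
  matrix, `a` spans the eigenspace of `B` for the eigenvalue `t`; the degree is `|X| / ∑ kᵢ |aᵢ| ^ 2`. The classes are
  the orbits of a subgroup `K` of the stabiliser of `x₀`.
* `exists_of_kernel_rat`, `exists_of_graph_rat` : the rational case with a certificate for the simplicity of the
  eigenvalue and natural number output.
-/

set_option autoImplicit false

namespace Cfsg.Agent.H678.DG.Sph

open Cfsg Representation
open scoped ComplexConjugate

universe u v

variable {G : Type u} [Group G] [Finite G] {X : Type v} [Fintype X] [MulAction G X]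

/-- The norm of a function. -/
noncomputable def nrm (w : X → ℂ) : ℂ := ∑ x, w x * conj (w x)

theorem nrm_conj (w : X → ℂ) : conj (nrm w) = nrm w := by
  unfold nrm
  rw [map_sum]
  refine Finset.sum_congr rfl fun x _ => ?_
  rw [map_mul, Complex.conj_conj, mul_comm]

theorem nrm_ne_zero {w : X → ℂ} {x₀ : X} (h : w x₀ = 1) : nrm w ≠ 0 := by
  intro h0
  have h1 : nrm w = ((∑ x, Complex.normSq (w x) : ℝ) : ℂ) := by
    unfold nrm
    push_cast
    exact Finset.sum_congr rfl fun x _ => Complex.mul_conj _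
  rw [h1] at h0
  have h2 : (∑ x, Complex.normSq (w x)) = 0 := by exact_mod_cast h0
  have h3 := (Finset.sum_eq_zero_iff_of_nonneg (fun x _ => Complex.normSq_nonneg (w x))).1 h2 x₀
    (Finset.mem_univ _)
  rw [h, map_one] at h3
  exact one_ne_zero h3

section main

variable (V : Submodule ℂ (X → ℂ)) (hV : ∀ (g : G), ∀ φ ∈ V, (fun x => φ (g⁻¹ • x)) ∈ V)

/-- The action on an invariant space of functions. -/
def rep : Representation ℂ G V where
  toFun g :=
    { toFun := fun φ => ⟨fun x => (φ : X → ℂ) (g⁻¹ • x), hV g φ φ.2⟩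
      map_add' := fun _ _ => rfl
      map_smul' := fun _ _ => rfl }
  map_one' := by
    refine LinearMap.ext fun φ => Subtype.ext (funext fun x => ?_)
    show (φ : X → ℂ) ((1 : G)⁻¹ • x) = (φ : X → ℂ) x
    rw [inv_one, one_smul]
  map_mul' g h := by
    refine LinearMap.ext fun φ => Subtype.ext (funext fun x => ?_)
    show (φ : X → ℂ) ((g * h)⁻¹ • x) = (φ : X → ℂ) (h⁻¹ • g⁻¹ • x)
    rw [mul_inv_rev, mul_smul]

omit [Finite G] [Fintype X] in
theorem rep_apply (g : G) (φ : V) (x : X) : ((rep V hV g φ : V) : X → ℂ) x = (φ : X → ℂ) (g⁻¹ • x) := rfl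

variable {V}

/-- The average over the stabiliser. -/
theorem average [DecidableEq X] (x₀ : X) {v : X → ℂ} (hv1 : v x₀ = 1)
    (hvK : ∀ g : G, g • x₀ = x₀ → ∀ x, v (g • x) = v x)
    (huniq : ∀ φ ∈ V, (∀ g : G, g • x₀ = x₀ → ∀ x, φ (g • x) = φ x) → ∃ c : ℂ, φ = c • v)
    (W : Submodule ℂ (X → ℂ)) (hWV : W ≤ V) (hW : ∀ (g : G), ∀ φ ∈ W, (fun x => φ (g⁻¹ • x)) ∈ W)
    {ψ : X → ℂ} (hψ : ψ ∈ W) : ψ x₀ • v ∈ W ∧ ∑ x, ψ x * conj (v x) = ψ x₀ * nrm v := by
  classical
  have := Fintype.ofFinite (MulAction.stabilizer G x₀)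
  set K := MulAction.stabilizer G x₀ with hK
  have hc0 : (Fintype.card K : ℂ) ≠ 0 := Nat.cast_ne_zero.2 Fintype.card_ne_zero
  let av : X → ℂ := (Fintype.card K : ℂ)⁻¹ • ∑ k : K, fun x => ψ ((k : G) • x)
  have hav : ∀ x, av x = (Fintype.card K : ℂ)⁻¹ * ∑ k : K, ψ ((k : G) • x) := by
    intro x
    show ((Fintype.card K : ℂ)⁻¹ • ∑ k : K, fun x => ψ ((k : G) • x)) x = _
    rw [Pi.smul_apply, Finset.sum_apply, smul_eq_mul]
  have havW : av ∈ W := by
    refine W.smul_mem _ (W.sum_mem fun k _ => ?_)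
    have h1 := hW ((k : G)⁻¹) ψ hψ
    simp only [inv_inv] at h1
    exact h1
  have havK : ∀ g : G, g • x₀ = x₀ → ∀ x, av (g • x) = av x := by
    intro g hg x
    rw [hav, hav]
    congr 1
    rw [← Equiv.sum_comp (Equiv.mulRight (⟨g, hg⟩ : K)) fun k : K => ψ ((k : G) • x)]
    refine Finset.sum_congr rfl fun k _ => ?_
    rw [Equiv.coe_mulRight, Subgroup.coe_mul, mul_smul]
  obtain ⟨c, hc⟩ := huniq av (hWV havW) havK
  have h0 : av x₀ = ψ x₀ := by
    rw [hav]
    have h1 : ∀ k : K, ψ ((k : G) • x₀) = ψ x₀ := fun k => by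
      rw [MulAction.mem_stabilizer_iff.1 k.2]
    rw [Finset.sum_congr rfl fun k _ => h1 k, Finset.sum_const, Finset.card_univ, nsmul_eq_mul,
      ← mul_assoc, inv_mul_cancel₀ hc0, one_mul]
  have hcψ : c = ψ x₀ := by
    have h1 := congrFun hc x₀
    rw [h0, Pi.smul_apply, hv1, smul_eq_mul, mul_one] at h1
    exact h1.symm
  subst hcψ
  refine ⟨hc ▸ havW, ?_⟩
  have h1 : ∑ x, av x * conj (v x) = ψ x₀ * nrm v := by
    rw [hc]
    unfold nrm
    rw [Finset.mul_sum]
    refine Finset.sum_congr rfl fun x _ => ?_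
    rw [Pi.smul_apply, smul_eq_mul, mul_assoc]
  rw [← h1]
  have h2 : ∀ k : K, ∑ x, ψ ((k : G) • x) * conj (v x) = ∑ x, ψ x * conj (v x) := by
    intro k
    rw [← Equiv.sum_comp (MulAction.toPerm (k : G)) fun x => ψ x * conj (v x)]
    refine Finset.sum_congr rfl fun x _ => ?_
    rw [MulAction.toPerm_apply, hvK _ k.2]
  have h3 : ∑ x, av x * conj (v x) = (Fintype.card K : ℂ)⁻¹ * ∑ k : K, ∑ x, ψ ((k : G) • x) * conj (v x) := by
    rw [Finset.sum_comm, Finset.mul_sum]
    refine Finset.sum_congr rfl fun x _ => ?_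
    rw [hav, mul_assoc, Finset.sum_mul]
  rw [h3, Finset.sum_congr rfl fun k _ => h2 k, Finset.sum_const, Finset.card_univ, nsmul_eq_mul,
    ← mul_assoc, inv_mul_cancel₀ hc0, one_mul]

/-- **Spherical functions.** -/
theorem exists_of_spherical [MulAction.IsPretransitive G X]
    (hV : ∀ (g : G), ∀ φ ∈ V, (fun x => φ (g⁻¹ • x)) ∈ V) (x₀ : X) {v : X → ℂ} (hv : v ∈ V) (hv1 : v x₀ = 1)
    (hvK : ∀ g : G, g • x₀ = x₀ → ∀ x, v (g • x) = v x)
    (huniq : ∀ φ ∈ V, (∀ g : G, g • x₀ = x₀ → ∀ x, φ (g • x) = φ x) → ∃ c : ℂ, φ = c • v) :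
    ∃ χ : IrrCharacter G, (charDegree (χ : G → ℂ) : ℂ) * nrm v = (Fintype.card X : ℂ) ∧
      (χ : G → ℂ) = (rep V hV).character := by
  classical
  have hN0 := nrm_ne_zero hv1
  have hNc := nrm_conj v
  choose γ hγ using fun y : X => MulAction.exists_smul_eq G x₀ y
  let F : X → X → ℂ := fun y x => v ((γ y)⁻¹ • x)
  have hF : ∀ y, F y ∈ V := fun y => hV (γ y) v hv
  have hFd : ∀ y, F y y = 1 := by
    intro y
    show v ((γ y)⁻¹ • y) = 1
    rw [inv_smul_eq_iff.2 (hγ y).symm, hv1]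
  -- the reproducing property
  have hrep : ∀ φ ∈ V, ∀ y, ∑ x, φ x * conj (F y x) = φ y * nrm v := by
    intro φ hφ y
    have h1 := (average x₀ hv1 hvK huniq V le_rfl hV (hV (γ y)⁻¹ φ hφ)).2
    simp only [inv_inv, hγ] at h1
    rw [← h1, ← Equiv.sum_comp (MulAction.toPerm (γ y)) fun x => φ x * conj (F y x)]
    refine Finset.sum_congr rfl fun x _ => ?_
    rw [MulAction.toPerm_apply]
    show _ * conj (v ((γ y)⁻¹ • (γ y) • x)) = _
    rw [inv_smul_smul]
  have hsym : ∀ x y, F x y = conj (F y x) := by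
    intro x y
    have h1 := hrep (F x) (hF x) y
    have h2 := hrep (F y) (hF y) x
    have h3 := congrArg conj h2
    rw [map_sum, map_mul, hNc] at h3
    have h4 : ∑ z, conj (F y z * conj (F x z)) = ∑ z, F x z * conj (F y z) := by
      refine Finset.sum_congr rfl fun z _ => ?_
      rw [map_mul, Complex.conj_conj, mul_comm]
    rw [h4, h1] at h3
    exact mul_right_cancel₀ hN0 h3
  let M : Matrix X X ℂ := Matrix.of fun y x => (nrm v)⁻¹ * F x y
  have hMapp : ∀ φ y, Matrix.toLin' M φ y = ∑ x, (nrm v)⁻¹ * F x y * φ x := fun φ y => by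
    rw [Matrix.toLin'_apply, Matrix.mulVec, dotProduct]
    rfl
  have hMF : ∀ φ, Matrix.toLin' M φ = ∑ x, ((nrm v)⁻¹ * φ x) • F x := by
    intro φ
    funext y
    rw [hMapp, Finset.sum_apply]
    refine Finset.sum_congr rfl fun x _ => ?_
    rw [Pi.smul_apply, smul_eq_mul]
    ring
  have hMid : ∀ φ ∈ V, Matrix.toLin' M φ = φ := by
    intro φ hφ
    funext y
    rw [hMapp]
    have h1 := hrep φ hφ y
    have h2 : ∑ x, (nrm v)⁻¹ * F x y * φ x = (nrm v)⁻¹ * ∑ x, φ x * conj (F y x) := by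
      rw [Finset.mul_sum]
      refine Finset.sum_congr rfl fun x _ => ?_
      rw [hsym x y]
      ring
    rw [h2, h1, mul_comm (φ y), ← mul_assoc, inv_mul_cancel₀ hN0, one_mul]
  have hproj : LinearMap.IsProj V (Matrix.toLin' M) := by
    refine ⟨fun φ => ?_, hMid⟩
    rw [hMF]
    exact V.sum_mem fun x _ => V.smul_mem _ (hF x)
  have htr := hproj.trace
  have htr2 : LinearMap.trace ℂ (X → ℂ) (Matrix.toLin' M) = (nrm v)⁻¹ * Fintype.card X := by
    rw [Matrix.trace_toLin'_eq]
    show ∑ y, (nrm v)⁻¹ * F y y = _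
    rw [Finset.sum_congr rfl fun y _ => by rw [hFd y, mul_one], Finset.sum_const, Finset.card_univ,
      nsmul_eq_mul, mul_comm]
  have hdim : (Module.finrank ℂ V : ℂ) * nrm v = (Fintype.card X : ℂ) := by
    rw [← htr, htr2, mul_comm (nrm v)⁻¹, mul_assoc, inv_mul_cancel₀ hN0, mul_one]
  -- irreducibility
  have hv0 : (⟨v, hv⟩ : V) ≠ 0 := by
    intro h
    have h1 : v x₀ = 0 := congrArg (fun φ : V => (φ : X → ℂ) x₀) h
    rw [hv1] at h1
    exact one_ne_zero h1
  have hirr : (rep V hV).IsIrreducible := by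
    have hbt : (⊥ : Subrepresentation (rep V hV)) ≠ ⊤ := by
      intro h
      have h3 : (⟨v, hv⟩ : V) ∈ (⊤ : Subrepresentation (rep V hV)) := Submodule.mem_top
      rw [← h] at h3
      exact hv0 ((Submodule.mem_bot ℂ).1 h3)
    have : Nontrivial (Subrepresentation (rep V hV)) := ⟨⊥, ⊤, hbt⟩
    refine { eq_bot_or_eq_top := fun σ => ?_ }
    by_cases hσ : ∃ φ : V, φ ∈ σ ∧ φ ≠ 0
    · right
      obtain ⟨φ, hφ, hφ0⟩ := hσ
      let W : Submodule ℂ (X → ℂ) := σ.toSubmodule.map V.subtype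
      have hWV : W ≤ V := Submodule.map_subtype_le _ _
      have hWm : ∀ ψ : V, (ψ : X → ℂ) ∈ W ↔ ψ ∈ σ := by
        intro ψ
        constructor
        · rintro ⟨ψ', h1, h2⟩
          have : ψ' = ψ := Subtype.ext h2
          rw [← this]; exact h1
        · intro h
          exact ⟨ψ, h, rfl⟩
      have hW : ∀ (g : G), ∀ φ ∈ W, (fun x => φ (g⁻¹ • x)) ∈ W := by
        rintro g _ ⟨ψ, h1, rfl⟩
        exact ⟨rep V hV g ψ, σ.apply_mem_toSubmodule g h1, rfl⟩
      obtain ⟨x, hx⟩ : ∃ x, (φ : X → ℂ) x ≠ 0 := by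
        by_contra hcon
        push Not at hcon
        exact hφ0 (Subtype.ext (funext hcon))
      have h1 := (average x₀ hv1 hvK huniq W hWV hW (hW (γ x)⁻¹ φ ((hWm φ).2 hφ))).1
      simp only [inv_inv, hγ] at h1
      have hvW : v ∈ W := by
        have h2 := W.smul_mem ((φ : X → ℂ) x)⁻¹ h1
        rwa [smul_smul, inv_mul_cancel₀ hx, one_smul] at h2
      have hFW : ∀ y, F y ∈ W := fun y => hW (γ y) v hvW
      apply SetLike.ext
      intro ψ
      refine ⟨fun _ => Submodule.mem_top, fun _ => ?_⟩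
      rw [← hWm, ← hMid ψ ψ.2, hMF]
      exact W.sum_mem fun x _ => W.smul_mem _ (hFW x)
    · left
      push Not at hσ
      apply SetLike.ext
      intro ψ
      constructor
      · intro h
        rw [hσ ψ h]
        exact Submodule.zero_mem _
      · intro h
        rw [(Submodule.mem_bot ℂ).1 h]
        exact σ.toSubmodule.zero_mem
  refine ⟨⟨(rep V hV).character, Characters.Core.isIrrCharacter_of_rep _ hirr⟩, ?_, rfl⟩
  have hdeg : charDegree (rep V hV).character = Module.finrank ℂ V := by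
    apply H670.PSing.charDegree_eq_of
    rw [Representation.char_one]
  show (charDegree (rep V hV).character : ℂ) * nrm v = _
  rw [hdeg, hdim]

/-- A variant: the functions of `V` fixed by a subgroup `K` of the stabiliser are the multiples of `v`. -/
theorem exists_of_spherical' [MulAction.IsPretransitive G X]
    (hV : ∀ (g : G), ∀ φ ∈ V, (fun x => φ (g⁻¹ • x)) ∈ V) (x₀ : X) {v : X → ℂ} (hv : v ∈ V) (hv1 : v x₀ = 1)
    (K : Subgroup G) (hK : ∀ g ∈ K, g • x₀ = x₀)
    (huniq : ∀ φ ∈ V, (∀ g ∈ K, ∀ x, φ (g • x) = φ x) → ∃ c : ℂ, φ = c • v) :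
    ∃ χ : IrrCharacter G, (charDegree (χ : G → ℂ) : ℂ) * nrm v = (Fintype.card X : ℂ) ∧
      (χ : G → ℂ) = (rep V hV).character := by
  classical
  have := Fintype.ofFinite (MulAction.stabilizer G x₀)
  set S := MulAction.stabilizer G x₀ with hS
  have hc0 : (Fintype.card S : ℂ) ≠ 0 := Nat.cast_ne_zero.2 Fintype.card_ne_zero
  let av : X → ℂ := (Fintype.card S : ℂ)⁻¹ • ∑ k : S, fun x => v ((k : G) • x)
  have hav : ∀ x, av x = (Fintype.card S : ℂ)⁻¹ * ∑ k : S, v ((k : G) • x) := by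
    intro x
    show ((Fintype.card S : ℂ)⁻¹ • ∑ k : S, fun x => v ((k : G) • x)) x = _
    rw [Pi.smul_apply, Finset.sum_apply, smul_eq_mul]
  have havW : av ∈ V := by
    refine V.smul_mem _ (V.sum_mem fun k _ => ?_)
    have h1 := hV ((k : G)⁻¹) v hv
    simp only [inv_inv] at h1
    exact h1
  have havS : ∀ g : G, g • x₀ = x₀ → ∀ x, av (g • x) = av x := by
    intro g hg x
    rw [hav, hav]
    congr 1
    rw [← Equiv.sum_comp (Equiv.mulRight (⟨g, hg⟩ : S)) fun k : S => v ((k : G) • x)]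
    refine Finset.sum_congr rfl fun k _ => ?_
    rw [Equiv.coe_mulRight, Subgroup.coe_mul, mul_smul]
  have h0 : av x₀ = 1 := by
    rw [hav]
    have h1 : ∀ k : S, v ((k : G) • x₀) = 1 := fun k => by
      rw [MulAction.mem_stabilizer_iff.1 k.2, hv1]
    rw [Finset.sum_congr rfl fun k _ => h1 k, Finset.sum_const, Finset.card_univ, nsmul_eq_mul,
      mul_one, inv_mul_cancel₀ hc0]
  obtain ⟨c, hc⟩ := huniq av havW fun g hg x => havS g (hK g hg) x
  have hc1 : c = 1 := by
    have h1 := congrFun hc x₀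
    rw [h0, Pi.smul_apply, hv1, smul_eq_mul, mul_one] at h1
    exact h1.symm
  rw [hc1, one_smul] at hc
  exact exists_of_spherical hV x₀ hv hv1 (fun g hg x => by rw [← hc]; exact havS g hg x)
    fun φ hφ hφS => huniq φ hφ fun g hg x => hφS g (hK g hg) x

end main

section graph

variable {n : ℕ}

/-- Sums over the neighbours of a representative. -/
theorem sum_kernel (E : X → X → ℂ) (cls : X → Fin n) (r : Fin n → X) (B : Fin n → Fin n → ℂ)
    (hB : ∀ i j, ∑ y ∈ Finset.univ.filter (fun y => cls y = j), E (r i) y = B i j) (a : Fin n → ℂ) (i : Fin n) :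
    ∑ y, E (r i) y * a (cls y) = ∑ j, B i j * a j := by
  classical
  rw [← Finset.sum_fiberwise_of_maps_to (t := Finset.univ) (g := cls) (fun _ _ => Finset.mem_univ _)]
  refine Finset.sum_congr rfl fun j _ => ?_
  rw [← hB, Finset.sum_mul]
  refine Finset.sum_congr rfl fun y hy => ?_
  rw [(Finset.mem_filter.1 hy).2]

/-- The norm of a function of the class. -/
theorem nrm_cls (cls : X → Fin n) (k : Fin n → ℕ) (hk : ∀ j, (Finset.univ.filter fun y => cls y = j).card = k j)
    (a : Fin n → ℂ) : nrm (fun x => a (cls x)) = ∑ j, (k j : ℂ) * (a j * conj (a j)) := by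
  classical
  unfold nrm
  rw [← Finset.sum_fiberwise_of_maps_to (t := Finset.univ) (g := cls) (fun _ _ => Finset.mem_univ _)]
  refine Finset.sum_congr rfl fun j _ => ?_
  have h1 : ∀ y ∈ Finset.univ.filter (fun y => cls y = j), a (cls y) * conj (a (cls y)) = a j * conj (a j) := by
    intro y hy
    rw [(Finset.mem_filter.1 hy).2]
  rw [Finset.sum_congr rfl h1, Finset.sum_const, nsmul_eq_mul, hk]

/-- **Degrees from the collapsed matrix of an invariant kernel.** -/
theorem exists_of_kernel [MulAction.IsPretransitive G X] (E : X → X → ℂ)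
    (hE : ∀ (g : G) x y, E (g • x) (g • y) = E x y) (x₀ : X) (K : Subgroup G) (hK : ∀ g ∈ K, g • x₀ = x₀)
    (cls : X → Fin n) (r : Fin n → X) (hcls : ∀ g ∈ K, ∀ x, cls (g • x) = cls x)
    (htr : ∀ x, ∃ g ∈ K, g • r (cls x) = x) (B : Fin n → Fin n → ℂ)
    (hB : ∀ i j, ∑ y ∈ Finset.univ.filter (fun y => cls y = j), E (r i) y = B i j)
    (k : Fin n → ℕ) (hk : ∀ j, (Finset.univ.filter fun y => cls y = j).card = k j)
    (a : Fin n → ℂ) (t : ℂ) (hBa : ∀ i, ∑ j, B i j * a j = t * a i)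
    (huniq : ∀ a' : Fin n → ℂ, (∀ i, ∑ j, B i j * a' j = t * a' i) → ∀ i, a' i = a' (cls x₀) * a i)
    (ha : a (cls x₀) = 1) :
    ∃ χ : IrrCharacter G, (charDegree (χ : G → ℂ) : ℂ) * ∑ j, (k j : ℂ) * (a j * conj (a j)) =
      (Fintype.card X : ℂ) := by
  classical
  have hsum := sum_kernel E cls r B hB
  let V : Submodule ℂ (X → ℂ) :=
    { carrier := {φ | ∀ x, ∑ y, E x y * φ y = t * φ x}
      add_mem' := by
        intro φ ψ h1 h2 x
        have h3 : ∀ y, E x y * (φ + ψ) y = E x y * φ y + E x y * ψ y := fun y => by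
          rw [Pi.add_apply, mul_add]
        rw [Finset.sum_congr rfl fun y _ => h3 y, Finset.sum_add_distrib, h1 x, h2 x, Pi.add_apply]
        ring
      zero_mem' := by
        intro x
        simp
      smul_mem' := by
        intro c φ h1 x
        have h3 : ∀ y, E x y * (c • φ) y = c * (E x y * φ y) := fun y => by
          rw [Pi.smul_apply, smul_eq_mul]; ring
        rw [Finset.sum_congr rfl fun y _ => h3 y, ← Finset.mul_sum, h1 x, Pi.smul_apply, smul_eq_mul]
        ring }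
  have hVm : ∀ φ : X → ℂ, φ ∈ V ↔ ∀ x, ∑ y, E x y * φ y = t * φ x := fun _ => Iff.rfl
  have htrans : ∀ (g : G) (φ : X → ℂ) x, ∑ y, E x y * φ (g⁻¹ • y) = ∑ y, E (g⁻¹ • x) y * φ y := by
    intro g φ x
    rw [← Equiv.sum_comp (MulAction.toPerm g) fun y => E x y * φ (g⁻¹ • y)]
    refine Finset.sum_congr rfl fun y _ => ?_
    rw [MulAction.toPerm_apply, inv_smul_smul]
    have h1 : E x (g • y) = E (g⁻¹ • x) y := by
      rw [← hE g (g⁻¹ • x) y, smul_inv_smul]
    rw [h1]
  have hVG : ∀ (g : G), ∀ φ ∈ V, (fun x => φ (g⁻¹ • x)) ∈ V := by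
    intro g φ h1
    rw [hVm] at h1 ⊢
    intro x
    rw [htrans, h1]
  have he : (fun x => a (cls x)) ∈ V := by
    rw [hVm]
    intro x
    obtain ⟨g, hg, hx⟩ := htr x
    have h1 := htrans g⁻¹ (fun y => a (cls y)) (r (cls x))
    rw [inv_inv, hx] at h1
    rw [← h1]
    have h2 : ∀ y, E (r (cls x)) y * a (cls (g • y)) = E (r (cls x)) y * a (cls y) := by
      intro y
      rw [hcls g hg]
    rw [Finset.sum_congr rfl fun y _ => h2 y, hsum, hBa]
  obtain ⟨χ, hχ, -⟩ := exists_of_spherical' hVG x₀ he ha K hK (by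
    intro φ hφ hK
    let a' : Fin n → ℂ := fun i => φ (r i)
    have haφ : ∀ x, φ x = a' (cls x) := by
      intro x
      obtain ⟨g, hg, hx⟩ := htr x
      show φ x = φ (r (cls x))
      rw [← hK g hg (r (cls x)), hx]
    have h2 : ∀ i, ∑ j, B i j * a' j = t * a' i := by
      intro i
      rw [← hsum a' i]
      have h3 := (hVm φ).1 hφ (r i)
      rw [Finset.sum_congr rfl fun y _ => by rw [haφ y]] at h3
      exact h3
    refine ⟨a' (cls x₀), funext fun x => ?_⟩
    show φ x = a' (cls x₀) * a (cls x)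
    rw [haφ, huniq a' h2])
  exact ⟨χ, by rw [← nrm_cls cls k hk a]; exact hχ⟩

/-- The rational case with a certificate `L` for the simplicity of the eigenvalue. -/
theorem exists_of_kernel_rat [MulAction.IsPretransitive G X] (E : X → X → ℚ)
    (hE : ∀ (g : G) x y, E (g • x) (g • y) = E x y) (x₀ : X) (K : Subgroup G) (hK : ∀ g ∈ K, g • x₀ = x₀)
    (cls : X → Fin n) (r : Fin n → X) (hcls : ∀ g ∈ K, ∀ x, cls (g • x) = cls x)
    (htr : ∀ x, ∃ g ∈ K, g • r (cls x) = x) (B : Fin n → Fin n → ℚ)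
    (hB : ∀ i j, ∑ y ∈ Finset.univ.filter (fun y => cls y = j), E (r i) y = B i j)
    (k : Fin n → ℕ) (hk : ∀ j, (Finset.univ.filter fun y => cls y = j).card = k j) (c : Fin n) (hc : cls x₀ = c)
    (a : Fin n → ℚ) (t : ℚ) (L : Fin n → Fin n → ℚ) (d N : ℕ) (hN : Fintype.card X = N)
    (ha : a c = 1) (hBa : ∀ i, ∑ j, B i j * a j = t * a i)
    (hL : ∀ i j, ∑ l, L i l * (B l j - if l = j then t else 0) =
      (if i = j then 1 else 0) - if j = c then a i else 0)
    (hd : (d : ℚ) * ∑ j, (k j : ℚ) * (a j * a j) = N) :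
    ∃ χ : IrrCharacter G, charDegree (χ : G → ℂ) = d := by
  obtain ⟨χ, hχ⟩ := exists_of_kernel (fun x y => (E x y : ℂ)) (fun g x y => by rw [hE]) x₀ K hK cls r hcls htr
    (fun i j => (B i j : ℂ)) (fun i j => by rw [← hB]; push_cast; rfl) k hk (fun i => (a i : ℂ)) (t : ℂ) (by
    intro i
    exact_mod_cast hBa i) (by
    intro a' h i
    have h1 : ∑ l, (L i l : ℂ) * (∑ j, ((B l j : ℂ) - if l = j then (t : ℂ) else 0) * a' j) = 0 := by
      refine Finset.sum_eq_zero fun l _ => ?_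
      have h2 : ∑ j, ((B l j : ℂ) - if l = j then (t : ℂ) else 0) * a' j = 0 := by
        simp only [sub_mul, ite_mul, zero_mul]
        rw [Finset.sum_sub_distrib, Finset.sum_ite_eq, if_pos (Finset.mem_univ _), h l, sub_self]
      rw [h2, mul_zero]
    have h3 : ∑ l, (L i l : ℂ) * (∑ j, ((B l j : ℂ) - if l = j then (t : ℂ) else 0) * a' j) =
        ∑ j, (∑ l, (L i l : ℂ) * ((B l j : ℂ) - if l = j then (t : ℂ) else 0)) * a' j := by
      simp only [Finset.mul_sum, Finset.sum_mul]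
      rw [Finset.sum_comm]
      refine Finset.sum_congr rfl fun j _ => Finset.sum_congr rfl fun l _ => ?_
      ring
    have h4 : ∀ j, ∑ l, (L i l : ℂ) * ((B l j : ℂ) - if l = j then (t : ℂ) else 0) =
        (if i = j then (1 : ℂ) else 0) - if j = c then (a i : ℂ) else 0 := by
      intro j
      have h5 := congrArg (fun q : ℚ => (q : ℂ)) (hL i j)
      simp only [Rat.cast_sum, Rat.cast_mul, Rat.cast_sub, apply_ite (Rat.cast : ℚ → ℂ),
        Rat.cast_zero, Rat.cast_one] at h5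
      exact h5
    rw [h3, Finset.sum_congr rfl fun j _ => by rw [h4 j]] at h1
    simp only [sub_mul, ite_mul, zero_mul, one_mul] at h1
    rw [Finset.sum_sub_distrib, Finset.sum_ite_eq, Finset.sum_ite_eq', if_pos (Finset.mem_univ _),
      if_pos (Finset.mem_univ _)] at h1
    rw [hc]
    linear_combination h1) (by rw [hc, ha]; norm_num)
  refine ⟨χ, ?_⟩
  have h1 : ∑ j, (k j : ℂ) * ((a j : ℂ) * conj (a j : ℂ)) = ((∑ j, (k j : ℚ) * (a j * a j) : ℚ) : ℂ) := by
    push_cast
    refine Finset.sum_congr rfl fun j _ => ?_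
    rw [← Complex.ofReal_ratCast, Complex.conj_ofReal]
  rw [h1, hN] at hχ
  have h2 : (charDegree (χ : G → ℂ) : ℚ) * (∑ j, (k j : ℚ) * (a j * a j)) = N := by exact_mod_cast hχ
  have h3 : (∑ j, (k j : ℚ) * (a j * a j)) ≠ 0 := by
    intro h0
    rw [h0, mul_zero] at h2
    have h4 : 0 < Fintype.card X := Fintype.card_pos_iff.2 ⟨x₀⟩
    rw [hN] at h4
    have : (N : ℚ) ≠ 0 := Nat.cast_ne_zero.2 h4.ne'
    exact this h2.symm
  have h4 : (charDegree (χ : G → ℂ) : ℚ) = d := mul_right_cancel₀ h3 (h2.trans hd.symm)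
  exact_mod_cast h4

/-- The case of an invariant relation. -/
theorem exists_of_graph_rat [MulAction.IsPretransitive G X] (E : X → X → Bool)
    (hE : ∀ (g : G) x y, E (g • x) (g • y) = E x y) (x₀ : X) (K : Subgroup G) (hK : ∀ g ∈ K, g • x₀ = x₀)
    (cls : X → Fin n) (r : Fin n → X) (hcls : ∀ g ∈ K, ∀ x, cls (g • x) = cls x)
    (htr : ∀ x, ∃ g ∈ K, g • r (cls x) = x) (B : Fin n → Fin n → ℕ)
    (hB : ∀ i j, (Finset.univ.filter fun y => E (r i) y = true ∧ cls y = j).card = B i j)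
    (k : Fin n → ℕ) (hk : ∀ j, (Finset.univ.filter fun y => cls y = j).card = k j) (c : Fin n) (hc : cls x₀ = c)
    (a : Fin n → ℚ) (t : ℚ) (L : Fin n → Fin n → ℚ) (d N : ℕ) (hN : Fintype.card X = N)
    (ha : a c = 1) (hBa : ∀ i, ∑ j, (B i j : ℚ) * a j = t * a i)
    (hL : ∀ i j, ∑ l, L i l * ((B l j : ℚ) - if l = j then t else 0) =
      (if i = j then 1 else 0) - if j = c then a i else 0)
    (hd : (d : ℚ) * ∑ j, (k j : ℚ) * (a j * a j) = N) :
    ∃ χ : IrrCharacter G, charDegree (χ : G → ℂ) = d := by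
  classical
  refine exists_of_kernel_rat (fun x y => if E x y = true then 1 else 0) (fun g x y => by rw [hE]) x₀ K hK cls r
    hcls htr (fun i j => (B i j : ℚ)) ?_ k hk c hc a t L d N hN ha hBa hL hd
  intro i j
  rw [← hB, ← Finset.sum_filter, Finset.sum_const, nsmul_eq_mul, mul_one, Finset.filter_filter]
  congr 2
  ext y
  simp only [Finset.mem_filter, Finset.mem_univ, true_and]
  tauto

end graph

end Cfsg.Agent.H678.DG.Sph
end

-- part: H714/DG/Top
section
set_option linter.all false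
open scoped Cfsg.Agent.FastGrp

/-!
# Irreducible spaces of functions with one invariant (helper714)

`G` acts transitively on the finite set `X`.

* `exists_of_top` : `V ≠ ⊥` is a `G`-invariant space of functions on `X`, the functions of `V` fixed by a subgroup `K` of
  the stabiliser of `x₀` are multiples of `v`, `v x₀ = 1`: `V` affords an irreducible character of degree
  `|X| / ∑ |v x| ^ 2`, and this is the dimension of `V`.
* `perp M` : the functions orthogonal to `M` (bilinear form `∑ φ x * f x`), `finrank_perp`.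
* `Pol c k` : the polynomial functions of degree `k` in the coordinates `c x i`, `finrank_Pol_le`.
* `exists_of_classes` : the check with a list of classes.
-/

set_option autoImplicit false
set_option linter.unusedSectionVars false

namespace Cfsg.Agent.H714.DG.Top

open Cfsg Representation Cfsg.Agent.H678.DG.Sph
open scoped ComplexConjugate

universe u v

section general

variable {X : Type v} [Fintype X]

/-- The functions orthogonal to `M`. -/
def perp (M : Submodule ℂ (X → ℂ)) : Submodule ℂ (X → ℂ) where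
  carrier := {φ | ∀ f ∈ M, ∑ x, φ x * f x = 0}
  add_mem' := by
    intro φ ψ h1 h2 f hf
    simp only [Pi.add_apply, add_mul, Finset.sum_add_distrib]
    rw [h1 f hf, h2 f hf, add_zero]
  zero_mem' := by
    intro f _
    simp
  smul_mem' := by
    intro c φ h1 f hf
    simp only [Pi.smul_apply, smul_eq_mul, mul_assoc]
    rw [← Finset.mul_sum, h1 f hf, mul_zero]

theorem mem_perp {M : Submodule ℂ (X → ℂ)} {φ : X → ℂ} : φ ∈ perp M ↔ ∀ f ∈ M, ∑ x, φ x * f x = 0 := Iff.rfl

/-- The bilinear form. -/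
noncomputable def bil (X : Type v) [Fintype X] : LinearMap.BilinForm ℂ (X → ℂ) :=
  open Classical in Matrix.toBilin' (1 : Matrix X X ℂ)

theorem bil_apply (φ f : X → ℂ) : bil X φ f = ∑ x, φ x * f x := by
  classical
  unfold bil
  rw [Matrix.toBilin'_apply']
  simp [dotProduct]

theorem bil_nondegenerate : (bil X).Nondegenerate := by
  classical
  unfold bil
  exact LinearMap.BilinForm.nondegenerate_toBilin'_of_det_ne_zero' _ (by rw [Matrix.det_one]; exact one_ne_zero)

theorem perp_eq (M : Submodule ℂ (X → ℂ)) : perp M = (bil X).orthogonal M := by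
  ext φ
  rw [mem_perp, LinearMap.BilinForm.mem_orthogonal_iff]
  refine forall_congr' fun f => forall_congr' fun _ => ?_
  show _ ↔ bil X f φ = 0
  rw [bil_apply]
  exact ⟨fun h => by rw [← h]; exact Finset.sum_congr rfl fun x _ => mul_comm _ _,
    fun h => by rw [← h]; exact Finset.sum_congr rfl fun x _ => mul_comm _ _⟩

theorem finrank_perp (M : Submodule ℂ (X → ℂ)) :
    Module.finrank ℂ (perp M) = Fintype.card X - Module.finrank ℂ M := by
  rw [perp_eq, LinearMap.BilinForm.finrank_orthogonal bil_nondegenerate, Module.finrank_fintype_fun_eq_card]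

theorem perp_ne_bot {M : Submodule ℂ (X → ℂ)} (h : Module.finrank ℂ M < Fintype.card X) : perp M ≠ ⊥ := by
  intro h0
  have h1 := finrank_perp M
  rw [h0, finrank_bot] at h1
  omega

variable {G : Type u} [Group G] [MulAction G X]

/-- Invariance of the orthogonal space. -/
theorem perp_inv {M : Submodule ℂ (X → ℂ)} (hM : ∀ (g : G), ∀ φ ∈ M, (fun x => φ (g⁻¹ • x)) ∈ M) (g : G) :
    ∀ φ ∈ perp M, (fun x => φ (g⁻¹ • x)) ∈ perp M := by
  intro φ hφ f hf
  rw [← Equiv.sum_comp (MulAction.toPerm g) fun x => φ (g⁻¹ • x) * f x]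
  have h1 := hφ _ (hM g⁻¹ f hf)
  rw [← h1]
  refine Finset.sum_congr rfl fun x _ => ?_
  rw [MulAction.toPerm_apply, inv_smul_smul, inv_inv]

theorem sup_inv {M N : Submodule ℂ (X → ℂ)} (hM : ∀ (g : G), ∀ φ ∈ M, (fun x => φ (g⁻¹ • x)) ∈ M)
    (hN : ∀ (g : G), ∀ φ ∈ N, (fun x => φ (g⁻¹ • x)) ∈ N) (g : G) :
    ∀ φ ∈ M ⊔ N, (fun x => φ (g⁻¹ • x)) ∈ M ⊔ N := by
  intro φ hφ
  obtain ⟨a, ha, b, hb, rfl⟩ := Submodule.mem_sup.1 hφ
  exact Submodule.mem_sup.2 ⟨_, hM g a ha, _, hN g b hb, rfl⟩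

/-- Invariance of a span. -/
theorem span_inv {S : Set (X → ℂ)} (hS : ∀ (g : G), ∀ φ ∈ S, (fun x => φ (g⁻¹ • x)) ∈ Submodule.span ℂ S) (g : G) :
    ∀ φ ∈ Submodule.span ℂ S, (fun x => φ (g⁻¹ • x)) ∈ Submodule.span ℂ S := by
  intro φ hφ
  induction hφ using Submodule.span_induction with
  | mem φ h => exact hS g φ h
  | zero => exact Submodule.zero_mem _
  | add φ ψ _ _ h1 h2 => exact Submodule.add_mem _ h1 h2
  | smul c φ _ h1 => exact Submodule.smul_mem _ c h1

variable [Finite G]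

/-- **Irreducibility of a space of functions with one invariant.** -/
theorem exists_of_top [MulAction.IsPretransitive G X] {V : Submodule ℂ (X → ℂ)}
    (hV : ∀ (g : G), ∀ φ ∈ V, (fun x => φ (g⁻¹ • x)) ∈ V) (hne : V ≠ ⊥) (x₀ : X)
    (K : Subgroup G) (hK : ∀ g ∈ K, g • x₀ = x₀) {v : X → ℂ} (hv1 : v x₀ = 1)
    (huniq : ∀ φ ∈ V, (∀ g ∈ K, ∀ x, φ (g • x) = φ x) → ∃ c : ℂ, φ = c • v) :
    v ∈ V ∧ ∃ χ : IrrCharacter G, (charDegree (χ : G → ℂ) : ℂ) * nrm v = (Fintype.card X : ℂ) ∧
      charDegree (χ : G → ℂ) = Module.finrank ℂ V ∧ (χ : G → ℂ) = (rep V hV).character := by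
  classical
  have := Fintype.ofFinite (MulAction.stabilizer G x₀)
  obtain ⟨φ, hφ, hφ0⟩ := Submodule.exists_mem_ne_zero_of_ne_bot hne
  obtain ⟨y, hy⟩ : ∃ y, φ y ≠ 0 := by
    by_contra hcon
    push Not at hcon
    exact hφ0 (funext hcon)
  obtain ⟨g, hg⟩ := MulAction.exists_smul_eq G x₀ y
  -- a function not vanishing at `x₀`
  have hψ := hV g⁻¹ φ hφ
  rw [inv_inv] at hψ
  set ψ : X → ℂ := fun x => φ (g • x) with hψd
  have hψ0 : ψ x₀ ≠ 0 := by rw [hψd]; show φ (g • x₀) ≠ 0; rw [hg]; exact hy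
  set S := MulAction.stabilizer G x₀ with hS
  let av : X → ℂ := ∑ k : S, fun x => ψ ((k : G) • x)
  have hav : ∀ x, av x = ∑ k : S, ψ ((k : G) • x) := by
    intro x
    show (∑ k : S, fun x => ψ ((k : G) • x)) x = _
    rw [Finset.sum_apply]
  have havV : av ∈ V := by
    refine V.sum_mem fun k _ => ?_
    have h1 := hV ((k : G)⁻¹) ψ hψ
    simp only [inv_inv] at h1
    exact h1
  have havS : ∀ g : G, g • x₀ = x₀ → ∀ x, av (g • x) = av x := by
    intro g hg x
    rw [hav, hav]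
    rw [← Equiv.sum_comp (Equiv.mulRight (⟨g, hg⟩ : S)) fun k : S => ψ ((k : G) • x)]
    refine Finset.sum_congr rfl fun k _ => ?_
    rw [Equiv.coe_mulRight, Subgroup.coe_mul, mul_smul]
  have h0 : av x₀ ≠ 0 := by
    rw [hav]
    have h1 : ∀ k : S, ψ ((k : G) • x₀) = ψ x₀ := fun k => by
      rw [MulAction.mem_stabilizer_iff.1 k.2]
    rw [Finset.sum_congr rfl fun k _ => h1 k, Finset.sum_const, Finset.card_univ, nsmul_eq_mul]
    exact mul_ne_zero (Nat.cast_ne_zero.2 Fintype.card_ne_zero) hψ0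
  obtain ⟨c, hc⟩ := huniq av havV fun g hg x => havS g (hK g hg) x
  have hc0 : c ≠ 0 := by
    rintro rfl
    rw [zero_smul] at hc
    exact h0 (congrFun hc x₀)
  have hvV : v ∈ V := by
    have h1 : v = c⁻¹ • av := by
      rw [hc, smul_smul, inv_mul_cancel₀ hc0, one_smul]
    rw [h1]
    exact V.smul_mem _ havV
  obtain ⟨χ, h1, h2⟩ := exists_of_spherical' hV x₀ hvV hv1 K hK huniq
  refine ⟨hvV, χ, h1, ?_, h2⟩
  rw [h2]
  apply H670.PSing.charDegree_eq_of
  rw [Representation.char_one]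

end general

/-! ### polynomial functions -/

section pol

variable {X : Type v} [Fintype X] {ι : Type} [Fintype ι] [DecidableEq ι] (c : X → ι → ℂ)

/-- A product of linear forms. -/
def pl {k : ℕ} (l : Fin k → ι → ℂ) : X → ℂ := fun x => ∏ t, ∑ j, l t j * c x j

/-- The polynomial functions of degree `k`. -/
def Pol (k : ℕ) : Submodule ℂ (X → ℂ) := Submodule.span ℂ (Set.range (pl c (k := k)))

/-- The monomials. -/
def mono {k : ℕ} (s : Sym ι k) : X → ℂ := fun x => ((s : Multiset ι).map (c x)).prod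

theorem Pol_le {k : ℕ} : Pol c k ≤ Submodule.span ℂ (Set.range (mono c (k := k))) := by
  refine Submodule.span_le.2 ?_
  rintro _ ⟨l, rfl⟩
  have h1 : pl c l = ∑ p : Fin k → ι, (∏ t, l t (p t)) •
      mono c (⟨Finset.univ.val.map p, by simp⟩ : Sym ι k) := by
    funext x
    unfold pl
    rw [Finset.prod_univ_sum, Finset.sum_apply, Fintype.piFinset_univ]
    refine Finset.sum_congr rfl fun p _ => ?_
    rw [Pi.smul_apply, smul_eq_mul, Finset.prod_mul_distrib]
    congr 1
    show _ = ((Finset.univ.val.map p).map (c x)).prod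
    rw [Multiset.map_map]
    rfl
  rw [h1]
  exact Submodule.sum_mem _ fun p _ => Submodule.smul_mem _ _ (Submodule.subset_span ⟨_, rfl⟩)

theorem finrank_Pol_le (k : ℕ) : Module.finrank ℂ (Pol c k) ≤ (Fintype.card ι).multichoose k := by
  refine (Submodule.finrank_mono (Pol_le c)).trans ?_
  have h := finrank_range_le_card (R := ℂ) (mono c (k := k))
  rw [Sym.card_sym_eq_multichoose] at h
  exact h

variable {G : Type u} [Group G] [MulAction G X]

/-- Invariance of the polynomial functions under a group acting linearly on the coordinates. -/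
theorem Pol_inv (hc : ∀ g : G, ∃ A : ι → ι → ℂ, ∀ x i, c (g • x) i = ∑ j, A i j * c x j) (k : ℕ) (g : G) :
    ∀ φ ∈ Pol c k, (fun x => φ (g⁻¹ • x)) ∈ Pol c k := by
  refine span_inv ?_ g
  rintro g _ ⟨l, rfl⟩
  obtain ⟨A, hA⟩ := hc g⁻¹
  refine Submodule.subset_span ⟨fun t j => ∑ i, l t i * A i j, ?_⟩
  funext x
  unfold pl
  refine Finset.prod_congr rfl fun t _ => ?_
  simp only [hA, Finset.mul_sum, Finset.sum_mul]
  rw [Finset.sum_comm]
  refine Finset.sum_congr rfl fun i _ => Finset.sum_congr rfl fun j _ => ?_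
  ring

theorem pl_mem {k : ℕ} (l : Fin k → ι → ℂ) : pl c l ∈ Pol c k := Submodule.subset_span ⟨l, rfl⟩

/-- `f ^ i * h ^ (k - i)` for linear forms. -/
theorem pow_mem (l m : ι → ℂ) {k i : ℕ} (hi : i ≤ k) :
    (fun x => (∑ j, l j * c x j) ^ i * (∑ j, m j * c x j) ^ (k - i)) ∈ Pol c k := by
  have h1 : (fun x => (∑ j, l j * c x j) ^ i * (∑ j, m j * c x j) ^ (k - i)) =
      pl c (fun t : Fin k => if (t : ℕ) < i then l else m) := by
    funext x
    unfold pl
    have h2 : ∀ t : Fin k, (∑ j, (if (t : ℕ) < i then l else m) j * c x j) =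
        if (t : ℕ) < i then (∑ j, l j * c x j) else (∑ j, m j * c x j) := by
      intro t
      split_ifs <;> rfl
    rw [Finset.prod_congr rfl fun t _ => h2 t, Finset.prod_ite, Finset.prod_const, Finset.prod_const]
    have h3 : (Finset.univ.filter fun t : Fin k => (t : ℕ) < i).card = i := by
      rw [Fin.card_filter_val_lt]
      omega
    have h4 : (Finset.univ.filter fun t : Fin k => ¬ (t : ℕ) < i).card = k - i := by
      have h5 := Finset.card_filter_add_card_filter_not (s := (Finset.univ : Finset (Fin k))) fun t : Fin k => (t : ℕ) < i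
      rw [Finset.card_univ, Fintype.card_fin] at h5
      omega
    rw [h3, h4]
  rw [h1]
  exact pl_mem c _

end pol

/-! ### classes -/

section classes

variable {X : Type v} [Fintype X] {G : Type u} [Group G] [MulAction G X] [Finite G] {n m : ℕ}

/-- **The check with a list of classes**: the `K`-invariant functions of `V` are constant on the classes, and satisfy the
linear conditions `R`; these conditions have (by the certificate `L`) only the multiples of `a` as solutions. -/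
theorem exists_of_classes [MulAction.IsPretransitive G X] {V : Submodule ℂ (X → ℂ)}
    (hV : ∀ (g : G), ∀ φ ∈ V, (fun x => φ (g⁻¹ • x)) ∈ V) (hne : V ≠ ⊥) (x₀ : X) (K : Subgroup G)
    (hK : ∀ g ∈ K, g • x₀ = x₀) (cls : X → Fin n) (N : Fin n → ℕ)
    (hN : ∀ j, (Finset.univ.filter fun x => cls x = j).card = N j)
    (hcl : ∀ φ ∈ V, (∀ g ∈ K, ∀ x, φ (g • x) = φ x) → ∃ a : Fin n → ℂ, φ = fun x => a (cls x))
    (R : Fin m → Fin n → ℚ)
    (hR : ∀ a : Fin n → ℂ, (fun x => a (cls x)) ∈ V → ∀ i, ∑ j, (R i j : ℂ) * a j = 0)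
    (a : Fin n → ℚ) (L : Fin n → Fin m → ℚ) (j₀ : Fin n) (hj₀ : cls x₀ = j₀)
    (hL : ∀ j j', ∑ i, L j i * R i j' = (if j = j' then 1 else 0) - (if j₀ = j' then a j else 0))
    (ha : a j₀ = 1) (d : ℕ) (hd : (d : ℚ) * ∑ j, (N j : ℚ) * a j ^ 2 = Fintype.card X) :
    (∃ χ : IrrCharacter G, charDegree (χ : G → ℂ) = d) ∧ Module.finrank ℂ V = d ∧
      (fun x => (a (cls x) : ℂ)) ∈ V := by
  classical
  obtain ⟨hv, χ, h1, h2, -⟩ := exists_of_top hV hne x₀ K hK (v := fun x => (a (cls x) : ℂ))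
    (by show ((a (cls x₀) : ℚ) : ℂ) = 1; rw [hj₀, ha, Rat.cast_one]) (by
      intro φ hφ hφK
      obtain ⟨b, rfl⟩ := hcl φ hφ hφK
      have h3 := hR b hφ
      refine ⟨b j₀, funext fun x => ?_⟩
      show b (cls x) = b j₀ * (a (cls x) : ℂ)
      generalize cls x = j
      have h4 : ∑ j', ((∑ i, L j i * R i j' : ℚ) : ℂ) * b j' = 0 := by
        have h5 : ∀ j', ((∑ i, L j i * R i j' : ℚ) : ℂ) * b j' = ∑ i, (L j i : ℂ) * ((R i j' : ℂ) * b j') := by
          intro j'
          rw [Rat.cast_sum, Finset.sum_mul]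
          refine Finset.sum_congr rfl fun i _ => ?_
          rw [Rat.cast_mul, mul_assoc]
        rw [Finset.sum_congr rfl fun j' _ => h5 j', Finset.sum_comm]
        refine Finset.sum_eq_zero fun i _ => ?_
        rw [← Finset.mul_sum, h3 i, mul_zero]
      have h6 : ∀ j', ((∑ i, L j i * R i j' : ℚ) : ℂ) * b j' =
          (if j = j' then b j' else 0) - (if j₀ = j' then (a j : ℂ) * b j' else 0) := by
        intro j'
        rw [hL]
        split_ifs <;> push_cast <;> ring
      rw [Finset.sum_congr rfl fun j' _ => h6 j', Finset.sum_sub_distrib, Finset.sum_ite_eq, Finset.sum_ite_eq,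
        if_pos (Finset.mem_univ _), if_pos (Finset.mem_univ _), sub_eq_zero] at h4
      rw [h4, mul_comm])
  have h3 : nrm (fun x => (a (cls x) : ℂ)) = ((∑ j, (N j : ℚ) * a j ^ 2 : ℚ) : ℂ) := by
    rw [nrm_cls cls N hN (fun j => (a j : ℂ)), Rat.cast_sum]
    refine Finset.sum_congr rfl fun j _ => ?_
    rw [map_ratCast]
    push_cast
    ring
  rw [h3] at h1
  have h4 : (charDegree (χ : G → ℂ) : ℚ) * ∑ j, (N j : ℚ) * a j ^ 2 = Fintype.card X := by
    have h5 : (((charDegree (χ : G → ℂ) : ℚ) * ∑ j, (N j : ℚ) * a j ^ 2 : ℚ) : ℂ) = ((Fintype.card X : ℚ) : ℂ) := by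
      push_cast
      push_cast at h1
      exact h1
    exact_mod_cast h5
  have h5 : (0 : ℚ) < Fintype.card X := Nat.cast_pos.2 (Fintype.card_pos_iff.2 ⟨x₀⟩)
  have h6 : (∑ j, (N j : ℚ) * a j ^ 2) ≠ 0 := by
    intro h0
    rw [h0, mul_zero] at h4
    exact h5.ne h4
  have h7 : charDegree (χ : G → ℂ) = d := by
    have : (charDegree (χ : G → ℂ) : ℚ) = d := mul_right_cancel₀ h6 (h4.trans hd.symm)
    exact_mod_cast this
  exact ⟨⟨χ, h7⟩, by rw [← h2, h7], hv⟩

end classes

end Cfsg.Agent.H714.DG.Top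
end

-- part: H805/K4/Bit
section
set_option linter.all false
open scoped Cfsg.Agent.FastGrp

/-!
# Degrees from an orbital of a permutation group with masks (helper805)

`T` is a group of permutations of `Fin N`, `m` the mask of the orbit of `p`, `cm i` (`i < n`) the masks of the orbits of
the stabiliser of `p`. `exists_deg` : the relation is the orbital of the class `c`, `B` its collapsed matrix, `t` a simple
eigenvalue (a Gaussian rational `t₁ + t₂ i`) with eigenvector `a₁ + a₂ i`: there is an irreducible character of degree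
`d`, `d * ∑ kᵢ |aᵢ| ^ 2 = |orbit|`.
-/

set_option autoImplicit false

open scoped ComplexConjugate

namespace Cfsg.Agent.H805.K4.Bit

open Cfsg Cfsg.Agent.Lib.BitNet Cfsg.Agent.Lib.BitNetSimple
open MulAction

/-! ### Gaussian rationals -/

section gauss

variable {n : ℕ}

/-- the complex number -/
noncomputable def cx (x y : ℚ) : ℂ := (x : ℂ) + (y : ℂ) * Complex.I

theorem cx_mul (x y u v : ℚ) : cx x y * cx u v = cx (x * u - y * v) (x * v + y * u) := by
  unfold cx
  push_cast
  linear_combination (y : ℂ) * v * Complex.I_mul_I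

theorem cx_sum {ι : Type*} (s : Finset ι) (f g : ι → ℚ) : ∑ i ∈ s, cx (f i) (g i) = cx (∑ i ∈ s, f i) (∑ i ∈ s, g i) := by
  unfold cx
  push_cast
  rw [Finset.sum_add_distrib, Finset.sum_mul]

theorem cx_ofRat (x : ℚ) : cx x 0 = (x : ℂ) := by
  unfold cx
  simp

theorem cx_one : cx 1 0 = 1 := by
  rw [cx_ofRat]
  norm_num

theorem conj_cx (x y : ℚ) : conj (cx x y) = cx x (-y) := by
  unfold cx
  rw [map_add, map_mul, Complex.conj_I, ← Complex.ofReal_ratCast, ← Complex.ofReal_ratCast, Complex.conj_ofReal,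
    Complex.conj_ofReal]
  push_cast
  ring

/-- The certificate of a simple eigenvalue over the Gaussian rationals. -/
structure Cert (B : Fin n → Fin n → ℕ) (c : Fin n) (a₁ a₂ : Fin n → ℚ) (t₁ t₂ : ℚ) (L₁ L₂ : Fin n → Fin n → ℚ) :
    Prop where
  one : a₁ c = 1 ∧ a₂ c = 0
  re : ∀ i, ∑ j, (B i j : ℚ) * a₁ j = t₁ * a₁ i - t₂ * a₂ i
  im : ∀ i, ∑ j, (B i j : ℚ) * a₂ j = t₁ * a₂ i + t₂ * a₁ i
  lre : ∀ i j, ∑ l, (L₁ i l * ((B l j : ℚ) - if l = j then t₁ else 0) + L₂ i l * (if l = j then t₂ else 0)) =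
    (if i = j then 1 else 0) - if j = c then a₁ i else 0
  lim : ∀ i j, ∑ l, (L₂ i l * ((B l j : ℚ) - if l = j then t₁ else 0) - L₁ i l * (if l = j then t₂ else 0)) =
    - if j = c then a₂ i else 0

variable {B : Fin n → Fin n → ℕ} {c : Fin n} {a₁ a₂ : Fin n → ℚ} {t₁ t₂ : ℚ} {L₁ L₂ : Fin n → Fin n → ℚ}

theorem Cert.eig (h : Cert B c a₁ a₂ t₁ t₂ L₁ L₂) (i : Fin n) :
    ∑ j, (B i j : ℂ) * cx (a₁ j) (a₂ j) = cx t₁ t₂ * cx (a₁ i) (a₂ i) := by
  have h1 : ∀ j, (B i j : ℂ) * cx (a₁ j) (a₂ j) = cx ((B i j : ℚ) * a₁ j) ((B i j : ℚ) * a₂ j) := by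
    intro j
    have : (B i j : ℂ) = cx (B i j : ℚ) 0 := by rw [cx_ofRat]; norm_num
    rw [this, cx_mul]
    congr 1 <;> ring
  rw [Finset.sum_congr rfl fun j _ => h1 j, cx_sum, h.re, h.im, cx_mul]

theorem Cert.uniq (h : Cert B c a₁ a₂ t₁ t₂ L₁ L₂) (a' : Fin n → ℂ)
    (ha' : ∀ i, ∑ j, (B i j : ℂ) * a' j = cx t₁ t₂ * a' i) (i : Fin n) : a' i = a' c * cx (a₁ i) (a₂ i) := by
  have h1 : ∑ l, cx (L₁ i l) (L₂ i l) * (∑ j, ((B l j : ℂ) - if l = j then cx t₁ t₂ else 0) * a' j) = 0 := by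
    refine Finset.sum_eq_zero fun l _ => ?_
    have h2 : ∑ j, ((B l j : ℂ) - if l = j then cx t₁ t₂ else 0) * a' j = 0 := by
      simp only [sub_mul, ite_mul, zero_mul]
      rw [Finset.sum_sub_distrib, Finset.sum_ite_eq, if_pos (Finset.mem_univ _), ha' l, sub_self]
    rw [h2, mul_zero]
  have h3 : ∑ l, cx (L₁ i l) (L₂ i l) * (∑ j, ((B l j : ℂ) - if l = j then cx t₁ t₂ else 0) * a' j) =
      ∑ j, (∑ l, cx (L₁ i l) (L₂ i l) * ((B l j : ℂ) - if l = j then cx t₁ t₂ else 0)) * a' j := by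
    simp only [Finset.mul_sum, Finset.sum_mul]
    rw [Finset.sum_comm]
    refine Finset.sum_congr rfl fun j _ => Finset.sum_congr rfl fun l _ => ?_
    ring
  have h4 : ∀ j, ∑ l, cx (L₁ i l) (L₂ i l) * ((B l j : ℂ) - if l = j then cx t₁ t₂ else 0) =
      (if i = j then (1 : ℂ) else 0) - if j = c then cx (a₁ i) (a₂ i) else 0 := by
    intro j
    have h5 : ∀ l, cx (L₁ i l) (L₂ i l) * ((B l j : ℂ) - if l = j then cx t₁ t₂ else 0) =
        cx (L₁ i l * ((B l j : ℚ) - if l = j then t₁ else 0) + L₂ i l * (if l = j then t₂ else 0))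
          (L₂ i l * ((B l j : ℚ) - if l = j then t₁ else 0) - L₁ i l * (if l = j then t₂ else 0)) := by
      intro l
      have h6 : (B l j : ℂ) - (if l = j then cx t₁ t₂ else 0) =
          cx ((B l j : ℚ) - if l = j then t₁ else 0) (- if l = j then t₂ else 0) := by
        split_ifs
        · unfold cx
          push_cast
          ring
        · rw [neg_zero, sub_zero, sub_zero, cx_ofRat]
          norm_num
      rw [h6, cx_mul]
      congr 1 <;> ring
    rw [Finset.sum_congr rfl fun l _ => h5 l, cx_sum, h.lre, h.lim]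
    split_ifs <;> unfold cx <;> push_cast <;> ring
  rw [h3, Finset.sum_congr rfl fun j _ => by rw [h4 j]] at h1
  simp only [sub_mul, ite_mul, zero_mul, one_mul] at h1
  rw [Finset.sum_sub_distrib, Finset.sum_ite_eq, Finset.sum_ite_eq', if_pos (Finset.mem_univ _),
    if_pos (Finset.mem_univ _)] at h1
  linear_combination h1

end gauss

/-! ### masks -/

section masks

variable {N : ℕ}

theorem inv_of {l : List (ℕ × ℕ)} (ok : OkNet N l) {m : ℕ} (h : Nat.beq (appMF l m) m = true) (x : Fin N) :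
    m.testBit (perm ok x) = m.testBit x := by
  rw [appMF_eq] at h
  have h := Nat.eq_of_beq_eq_true h
  have h1 := testBit_appM ok.valid m x
  rw [h] at h1
  rw [perm_apply]
  exact h1

theorem inv_closure {S : Set (Equiv.Perm (Fin N))} {m : ℕ} (h : ∀ g ∈ S, ∀ x : Fin N, m.testBit (g x) = m.testBit x)
    {g : Equiv.Perm (Fin N)} (hg : g ∈ Subgroup.closure S) (x : Fin N) : m.testBit (g x) = m.testBit x := by
  induction hg using Subgroup.closure_induction generalizing x with
  | mem g hg => exact h g hg x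
  | one => rfl
  | mul a b _ _ ha hb => rw [Equiv.Perm.mul_apply, ha, hb]
  | inv a _ ha =>
    have h1 : a (a⁻¹ x) = x := a.apply_symm_apply x
    rw [← ha (a⁻¹ x), h1]

/-- The data of an orbit and its suborbits. -/
structure Orb (T : Subgroup (Equiv.Perm (Fin N))) (n : ℕ) where
  /-- the mask of the orbit -/
  m : ℕ
  /-- the base point -/
  p : Fin N
  /-- the masks of the suborbits -/
  cm : Fin n → ℕ
  /-- the representatives -/
  ry : Fin n → Fin N
  /-- the class of the base point -/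
  c0 : Fin n
  m_inv : ∀ g ∈ T, ∀ x, m.testBit (g x) = m.testBit x
  trans : ∀ x : Fin N, m.testBit x = true → ∃ g ∈ T, g p = x
  p_mem : m.testBit p = true
  disj : ∀ i j, ∀ x : Fin N, (cm i).testBit x = true → (cm j).testBit x = true → i = j
  cover : ∀ x : Fin N, m.testBit x = true → ∃ i, (cm i).testBit x = true
  sub : ∀ i, ∀ x : Fin N, (cm i).testBit x = true → m.testBit x = true
  c0_mem : (cm c0).testBit p = true
  ry_mem : ∀ i, (cm i).testBit (ry i) = true
  inv : ∀ g ∈ T, g p = p → ∀ i x, (cm i).testBit (g x) = (cm i).testBit x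
  orb : ∀ i, ∀ x : Fin N, (cm i).testBit x = true → ∃ g ∈ T, g p = p ∧ g (ry i) = x

variable {T : Subgroup (Equiv.Perm (Fin N))} {n : ℕ} (D : Orb T n)

/-- the points -/
abbrev Pt (D : Orb T n) : Type := {x : Fin N // D.m.testBit x = true}

instance : MulAction T (Pt D) where
  smul g x := ⟨g.1 x.1, by rw [D.m_inv g.1 g.2]; exact x.2⟩
  one_smul _ := rfl
  mul_smul _ _ _ := rfl

theorem smul_val (g : T) (x : Pt D) : (g • x).1 = g.1 x.1 := rfl

theorem transitive : MulAction.IsPretransitive T (Pt D) := by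
  have key : ∀ x : Pt D, ∃ g : T, g • (⟨D.p, D.p_mem⟩ : Pt D) = x := by
    intro x
    obtain ⟨g, hg, h⟩ := D.trans x.1 x.2
    exact ⟨⟨g, hg⟩, Subtype.ext h⟩
  refine ⟨fun x y => ?_⟩
  obtain ⟨g, rfl⟩ := key x
  obtain ⟨h, rfl⟩ := key y
  exact ⟨h * g⁻¹, by rw [mul_smul, inv_smul_smul]⟩

/-- the class of a point -/
noncomputable def cls (x : Pt D) : Fin n := (D.cover x.1 x.2).choose

theorem cls_spec (x : Pt D) : (D.cm (cls D x)).testBit x.1 = true := (D.cover x.1 x.2).choose_spec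

theorem cls_iff (x : Pt D) (i : Fin n) : cls D x = i ↔ (D.cm i).testBit x.1 = true :=
  ⟨fun h => h ▸ cls_spec D x, fun h => D.disj _ _ x.1 (cls_spec D x) h⟩

/-- **Degrees from an orbital.** -/
theorem exists_deg [Finite T] {K : ℕ} (hN : N ≤ 2 ^ K) (c : Fin n) (B : Fin n → Fin n → ℕ) (k : Fin n → ℕ)
    (γ : Fin n → Equiv.Perm (Fin N)) (hγT : ∀ i, γ i ∈ T) (hγ : ∀ i, γ i D.p = D.ry i)
    (im : Fin n → ℕ) (him : ∀ i (x : Fin N), (im i).testBit (γ i x) = (D.cm c).testBit x)
    (hB : ∀ i j, Nat.beq (popc K (Nat.land (im i) (D.cm j))) (B i j) = true)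
    (hk : ∀ j, Nat.beq (popc K (D.cm j)) (k j) = true)
    (hlt : ∀ j, Nat.blt (D.cm j) (Nat.pow 2 N) = true)
    (a₁ a₂ : Fin n → ℚ) (t₁ t₂ : ℚ) (L₁ L₂ : Fin n → Fin n → ℚ) (hC : Cert B D.c0 a₁ a₂ t₁ t₂ L₁ L₂) (d M : ℕ)
    (hM : ∑ j, k j = M) (hd : (d : ℚ) * ∑ j, (k j : ℚ) * (a₁ j * a₁ j + a₂ j * a₂ j) = M) :
    ∃ χ : IrrCharacter T, charDegree (χ : T → ℂ) = d := by
  classical
  have := transitive D
  -- sizes of sets of points given by masks
  have hcard : ∀ (w : ℕ) (j : Fin n) (s : ℕ), Nat.beq (popc K (Nat.land w (D.cm j))) s = true →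
      (Finset.univ.filter fun y : Pt D => w.testBit y.1 = true ∧ cls D y = j).card = s := by
    intro w j s hs
    have h1 : (Finset.univ.filter fun y : Pt D => w.testBit y.1 = true ∧ cls D y = j).card =
        (pts N (Nat.land w (D.cm j))).card := by
      rw [← Finset.card_map (Function.Embedding.subtype _)]
      congr 1
      ext y
      have e : Nat.land w (D.cm j) = w &&& D.cm j := rfl
      rw [Finset.mem_map, mem_pts, e, Nat.testBit_and, Bool.and_eq_true]
      constructor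
      · rintro ⟨z, hz, rfl⟩
        obtain ⟨-, hz1, hz2⟩ := Finset.mem_filter.1 hz
        exact ⟨hz1, (cls_iff D _ _).1 hz2⟩
      · rintro ⟨h1, h2⟩
        exact ⟨⟨y, D.sub j y h2⟩, Finset.mem_filter.2 ⟨Finset.mem_univ _, h1, (cls_iff D _ _).2 h2⟩, rfl⟩
    rw [h1]
    have h2 := Nat.eq_of_beq_eq_true hs
    apply le_antisymm
    · rw [← h2]
      exact card_pts_le hN _
    · rw [← h2]
      refine card_pts_eq fun i hi => ?_
      by_contra hle
      have h3 := hlt j
      rw [Nat.blt_eq] at h3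
      have e : Nat.land w (D.cm j) = w &&& D.cm j := rfl
      rw [e, Nat.testBit_and, Bool.and_eq_true] at hi
      have h4 : D.cm j < 2 ^ i := lt_of_lt_of_le h3 (Nat.pow_le_pow_right (by norm_num) (not_lt.1 hle))
      rw [Nat.testBit_lt_two_pow h4] at hi
      exact Bool.noConfusion hi.2
  have hcard' : ∀ j : Fin n, (Finset.univ.filter fun y : Pt D => cls D y = j).card = k j := by
    intro j
    have h1 : Nat.beq (popc K (Nat.land (D.cm j) (D.cm j))) (k j) = true := by
      have e : Nat.land (D.cm j) (D.cm j) = D.cm j := Nat.and_self _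
      rw [e]
      exact hk j
    rw [← hcard (D.cm j) j (k j) h1]
    congr 1
    ext y
    simp only [Finset.mem_filter, Finset.mem_univ, true_and]
    exact ⟨fun h => ⟨(cls_iff D _ _).1 h, h⟩, fun h => h.2⟩
  have hcardX : Fintype.card (Pt D) = M := by
    rw [← Finset.card_univ, Finset.card_eq_sum_card_fiberwise (f := cls D) (t := Finset.univ)
      (fun _ _ => Finset.mem_univ _), Finset.sum_congr rfl fun j _ => hcard' j, hM]
  -- the relation
  let R : Pt D → Pt D → Prop := fun x y => ∃ g ∈ T, g D.p = x.1 ∧ (D.cm c).testBit (g⁻¹ y.1 : Fin N) = true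
  have hR : ∀ (g : T) x y, R (g • x) (g • y) ↔ R x y := by
    intro g x y
    constructor
    · rintro ⟨h, hT, h1, h2⟩
      refine ⟨g.1⁻¹ * h, T.mul_mem (T.inv_mem g.2) hT, ?_, ?_⟩
      · rw [Equiv.Perm.mul_apply, h1, smul_val]
        exact g.1.symm_apply_apply _
      · rw [mul_inv_rev, inv_inv, Equiv.Perm.mul_apply]
        exact h2
    · rintro ⟨h, hT, h1, h2⟩
      refine ⟨g.1 * h, T.mul_mem g.2 hT, ?_, ?_⟩
      · rw [Equiv.Perm.mul_apply, h1, smul_val]
      · rw [mul_inv_rev, Equiv.Perm.mul_apply, smul_val]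
        have e : (g.1⁻¹ : Equiv.Perm (Fin N)) (g.1 y.1) = y.1 := g.1.symm_apply_apply _
        rw [e]
        exact h2
  let r : Fin n → Pt D := fun i => ⟨D.ry i, D.sub i _ (D.ry_mem i)⟩
  have hRr : ∀ i (y : Pt D), R (r i) y ↔ (im i).testBit y.1 = true := by
    intro i y
    constructor
    · rintro ⟨h, hT, h1, h2⟩
      have h3 : (γ i)⁻¹ * h ∈ T := T.mul_mem (T.inv_mem (hγT i)) hT
      have h4 : ((γ i)⁻¹ * h) D.p = D.p := by
        rw [Equiv.Perm.mul_apply, h1]
        show (γ i)⁻¹ (D.ry i) = D.p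
        rw [← hγ i]
        exact (γ i).symm_apply_apply _
      have h5 := D.inv _ h3 h4 c ((h⁻¹ : Equiv.Perm (Fin N)) y.1)
      rw [h2, Equiv.Perm.mul_apply] at h5
      have e : h ((h⁻¹ : Equiv.Perm (Fin N)) y.1) = y.1 := h.apply_symm_apply _
      rw [e] at h5
      have h6 := him i ((γ i)⁻¹ y.1)
      have e2 : γ i ((γ i)⁻¹ y.1) = y.1 := (γ i).apply_symm_apply _
      rw [e2] at h6
      rw [h6, h5]
    · intro h
      refine ⟨γ i, hγT i, hγ i, ?_⟩
      have h6 := him i ((γ i)⁻¹ y.1)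
      have e2 : γ i ((γ i)⁻¹ y.1) = y.1 := (γ i).apply_symm_apply _
      rw [e2] at h6
      rw [← h6, h]
  have hcr : ∀ i, cls D (r i) = i := fun i => (cls_iff D _ _).2 (D.ry_mem i)
  have hcp : cls D ⟨D.p, D.p_mem⟩ = D.c0 := (cls_iff D _ _).2 D.c0_mem
  obtain ⟨χ, hχ⟩ := H678.DG.Sph.exists_of_kernel (G := T) (X := Pt D) (fun x y => if R x y then (1 : ℂ) else 0)
    (fun g x y => by
      show (if R (g • x) (g • y) then (1 : ℂ) else 0) = if R x y then (1 : ℂ) else 0
      by_cases h : R x y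
      · rw [if_pos h, if_pos ((hR g x y).2 h)]
      · rw [if_neg h, if_neg fun h' => h ((hR g x y).1 h')])
    ⟨D.p, D.p_mem⟩ (MulAction.stabilizer T (⟨D.p, D.p_mem⟩ : Pt D)) (fun _ h => h) (cls D) r (by
      intro g hg x
      rw [cls_iff, smul_val]
      have h1 : g.1 D.p = D.p := congrArg Subtype.val hg
      rw [D.inv _ g.2 h1]
      exact cls_spec D x) (by
      intro x
      obtain ⟨g, hg, h1, h2⟩ := D.orb (cls D x) x.1 (cls_spec D x)
      exact ⟨⟨g, hg⟩, Subtype.ext h1, Subtype.ext h2⟩)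
    (fun i j => (B i j : ℂ)) (by
      intro i j
      rw [← hcard (im i) j (B i j) (hB i j), ← Finset.sum_filter, Finset.sum_const, nsmul_eq_mul, mul_one,
        Finset.filter_filter]
      congr 2
      ext y
      simp only [Finset.mem_filter, Finset.mem_univ, true_and]
      rw [hRr]
      tauto) k hcard' (fun i => cx (a₁ i) (a₂ i)) (cx t₁ t₂) hC.eig (by
      intro a' h i
      rw [hcp]
      exact hC.uniq a' h i) (by
      rw [hcp]
      show cx (a₁ D.c0) (a₂ D.c0) = 1
      rw [hC.one.1, hC.one.2, cx_one])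
  refine ⟨χ, ?_⟩
  have h1 : ∑ j, (k j : ℂ) * (cx (a₁ j) (a₂ j) * conj (cx (a₁ j) (a₂ j))) =
      ((∑ j, (k j : ℚ) * (a₁ j * a₁ j + a₂ j * a₂ j) : ℚ) : ℂ) := by
    push_cast
    refine Finset.sum_congr rfl fun j _ => ?_
    rw [conj_cx, cx_mul]
    have e : a₁ j * -a₂ j + a₂ j * a₁ j = 0 := by ring
    rw [e, cx_ofRat]
    push_cast
    ring
  rw [h1, hcardX] at hχ
  have h2 : (charDegree (χ : T → ℂ) : ℚ) * (∑ j, (k j : ℚ) * (a₁ j * a₁ j + a₂ j * a₂ j)) = M := by exact_mod_cast hχ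
  have h3 : (∑ j, (k j : ℚ) * (a₁ j * a₁ j + a₂ j * a₂ j)) ≠ 0 := by
    intro h0
    rw [h0, mul_zero] at h2
    have h4 : 0 < Fintype.card (Pt D) := Fintype.card_pos_iff.2 ⟨⟨D.p, D.p_mem⟩⟩
    rw [hcardX] at h4
    have : (M : ℚ) ≠ 0 := Nat.cast_ne_zero.2 h4.ne'
    exact this h2.symm
  have h4 : (charDegree (χ : T → ℂ) : ℚ) = d := mul_right_cancel₀ h3 (h2.trans hd.symm)
  exact_mod_cast h4

end masks

end Cfsg.Agent.H805.K4.Bit
end
end
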