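import Cfsg.Agent.H678.DG.Basic
import Cfsg.Agent.H678.DG.PairRep_m3
import Cfsg.Agent.H672.SporIM.RankRows
import Cfsg.Agent.J2.HundredGens
import Cfsg.Agent.S1619
import Cfsg.Agent.SporadicStructure.CrossMaxEnd
import Cfsg.Agent.SporadicStructure.Co2RankThree
import Cfsg.Agent.H714.DG.Top_m3
import Cfsg.Agent.H419.LeechIrr
import Cfsg.Agent.Co2Type.CardCo2
import Cfsg.Agent.Prune
set_option linter.all false

section
prune_inst 0x7f00000000000000000000000000000000000000000000000000000000000000000000000000000000000000000000000000000000000000000000000000000000000000000000000000000000000000003fffffffffffffffffffffffffffaeffbdffffffff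

-- part: H678/DG/Rows
section
set_option linter.all false
open scoped Cfsg.Agent.FastGrp

/-!
# Degree graph facts for the Suzuki group and the Hall-Janko group (helper678)

* `facts_suz` : degrees 1001, 780.
* `facts_j2` : degrees 63, 90.
-/

set_option autoImplicit false

namespace Cfsg.Agent.H678.DG.Rows

open Cfsg Cfsg.Agent.H672.SporIM

universe u

theorem im_of_hasDeg {S : Type*} [Group S] {d : ℕ} (h : HasDeg S d) : H671.H5.IM d S := by
  obtain ⟨χ, hχ⟩ := h
  exact ⟨χ, by rw [hχ]⟩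

/-- The degree graph of `Suz`. -/
theorem facts_suz {S : Type u} [Group S] (h : Spor.IsoSuz S) : Facts S := by
  have hc := Cfsg.Agent.NotCT.Orders.suz h
  have : Finite S := Nat.finite_of_card_ne_zero (by rw [hc]; norm_num)
  obtain ⟨h1, h2⟩ := suz h
  refine Facts.of_list (P := [2, 3, 5, 7, 11, 13]) (D := [1001, 780]) ?_ (by decide)
    (mem_of_card (f := fun _ => 13) ?_ ?_) ?_ (by decide +kernel)
  · intro p hp; fin_cases hp <;> norm_num
  · rw [hc]; decide +kernel
  · intro p hp; fin_cases hp <;> norm_num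
  · intro m hm
    simp only [List.mem_cons, List.not_mem_nil, or_false] at hm
    rcases hm with rfl | rfl
    · exact im_of_hasDeg h1
    · exact im_of_hasDeg h2

/-- The degree graph of `J2`. -/
theorem facts_j2 {S : Type u} [Group S] (h : Spor.IsoJ2 S) : Facts S := by
  have hc := Cfsg.Agent.NotCT.Orders.j2 h
  have : Finite S := Nat.finite_of_card_ne_zero (by rw [hc]; norm_num)
  obtain ⟨h1, -⟩ := j2 h
  obtain ⟨f⟩ := J2.HundredGens.J2_iso Cfsg.Agent.S1619.result.2.2.2
  obtain ⟨e⟩ := h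
  have h2 : HasDeg S 90 := HasDeg.of_equiv (e.trans f) JTwoDeg.deg_90
  refine Facts.of_list (P := [7, 2, 5, 3]) (D := [63, 90]) ?_ (by decide)
    (mem_of_card (f := fun _ => 7) ?_ ?_) ?_ (by decide +kernel)
  · intro p hp; fin_cases hp <;> norm_num
  · rw [hc]; decide +kernel
  · intro p hp; fin_cases hp <;> norm_num
  · intro m hm
    simp only [List.mem_cons, List.not_mem_nil, or_false] at hm
    rcases hm with rfl | rfl
    · exact im_of_hasDeg h1
    · exact im_of_hasDeg h2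

end Cfsg.Agent.H678.DG.Rows
end

-- part: H714/DG/CoTwoG
section
prune_inst 0x10000000000000
set_option linter.all false
open scoped Cfsg.Agent.FastGrp

/-!
# Orbits of the stabiliser of `(4, 4, 0²²)` and `(4, -4, 0²²)` on the minimal vectors orthogonal to the first (helper714)

* `trans16`, `trans8` : transitivity on the vectors of inner product `16`, `8` with `b0`.
* `exists_neg` : the vectors orthogonal to both are moved to their negatives.
-/

set_option autoImplicit false
open scoped Pointwise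
open Cfsg

namespace Cfsg.Agent.H714.DG.CoTwoG

open Cfsg.Agent.SporadicA.GolayBase Cfsg.Agent.SporadicA.GolayPerm
open Cfsg.Agent.SporadicStructure.MinShapes Cfsg.Agent.SporadicStructure.MonoPerms
open Cfsg.Agent.SporadicStructure.MonoSigns Cfsg.Agent.SporadicStructure.MonoTypes
open Cfsg.Agent.SporadicStructure.Co0Base
open Cfsg.Agent.SporadicStructure.MonoOrbits hiding b0 orb2 orb4
open Cfsg.Agent.SporadicStructure.CrossCrit Cfsg.Agent.SporadicStructure.CrossMax
open Cfsg.Agent.SporadicStructure.Co2RankThree (dt a0 b0 dt_a0 dt_b0 norm_eq dt_comm)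

theorem a0_eq (i : GolayPt) (h1 : i ≠ none) (h2 : i ≠ some 0) : (a0 : GolayPt → ℤ) i = 0 := by
  show Spor.vecU i = 0
  unfold Spor.vecU
  rw [if_neg (by tauto)]

theorem b0_eq (i : GolayPt) (h1 : i ≠ none) (h2 : i ≠ some 0) : (b0 : GolayPt → ℤ) i = 0 := by
  show Spor.vecU' i = 0
  unfold Spor.vecU'
  rw [if_neg h1, if_neg h2]

theorem v0_eq : v0 = a0 := by
  apply Subtype.ext
  funext i
  show vec 4 {none, some 0} ∅ i = Spor.vecU i
  unfold Spor.vecU
  rw [vec_apply]
  simp only [Finset.mem_insert, Finset.mem_singleton, Finset.notMem_empty, if_false]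

/-- A monomial map fixing the vectors supported on `none`, `some 0`. -/
theorem mono_fix {σ : Equiv.Perm GolayPt} (hσ : σ ∈ N22) {d : Finset GolayPt} (hd : d ∈ SC)
    (h1 : none ∉ d ∧ some 0 ∉ d) (x : leechLattice) (hx : ∀ i, i ≠ none → i ≠ some 0 → (x : GolayPt → ℤ) i = 0) :
    monomial σ (N22_le hσ) d hd • x = x := by
  obtain ⟨-, hσn, hσ0⟩ := mem_N22.1 hσ
  apply Subtype.ext
  funext i
  rw [monomial_smul, signedPerm_apply]
  by_cases hi : i = none
  · subst hi
    rw [if_neg h1.1, (Equiv.symm_apply_eq σ).2 hσn.symm]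
  by_cases hi0 : i = some 0
  · subst hi0
    rw [if_neg h1.2, (Equiv.symm_apply_eq σ).2 hσ0.symm]
  · have h2 : (x : GolayPt → ℤ) (σ.symm i) = 0 := by
      apply hx
      · intro h
        rw [Equiv.symm_apply_eq, hσn] at h
        exact hi h
      · intro h
        rw [Equiv.symm_apply_eq, hσ0] at h
        exact hi0 h
    rw [h2, hx i hi hi0]
    split_ifs <;> rfl

/-- The vectors in the orbit of `r` under the stabiliser. -/
def Rc (r v : leechLattice) : Prop := ∃ g : Co0, g • a0 = a0 ∧ g • b0 = b0 ∧ g • r = v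

theorem Rc.trans' {r v w : leechLattice} (h : Rc r v) (h' : Rc r w) : Rc v w := by
  obtain ⟨g, g1, g2, g3⟩ := h
  obtain ⟨k, k1, k2, k3⟩ := h'
  refine ⟨k * g⁻¹, ?_, ?_, ?_⟩
  · rw [mul_smul, inv_smul_eq_iff.2 g1.symm, k1]
  · rw [mul_smul, inv_smul_eq_iff.2 g2.symm, k2]
  · rw [mul_smul, ← g3, inv_smul_smul, k3]

theorem orb2 (v : leechLattice) {O S : Finset GolayPt} (hO : O ∈ octads) (hnO : none ∈ O)
    (h0O : some 0 ∈ O) (hS : S ⊆ O) (he : Even S.card) (hn : none ∉ S) (h0 : some 0 ∈ S)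
    (hv : (v : GolayPt → ℤ) = vec 2 O S) : Rc (⟨_, r2_mem⟩ : leechLattice) v := by
  obtain ⟨σ, hσ, h1⟩ := exists_N22_octad_in hO hnO h0O
  obtain ⟨-, hσn, hσ0⟩ := mem_N22.1 hσ
  have m1 : none ∈ O2 := by decide +kernel
  have m2 : some 0 ∈ O2 := by decide +kernel
  have hR : ({some 0, some 12} : Finset GolayPt) ⊆ O2 := by decide +kernel
  have hσS : σ⁻¹ • S ⊆ O2 := by
    rw [Finset.smul_finset_subset_iff, inv_inv, h1]
    exact hS
  have hn' : none ∉ σ⁻¹ • S := by
    intro h
    have := (mem_smul_iff σ (σ⁻¹ • S) none).2 h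
    rw [smul_inv_smul, hσn] at this
    exact hn this
  have h0' : some 0 ∈ σ⁻¹ • S := by
    rw [← mem_smul_iff σ, smul_inv_smul, hσ0]
    exact h0
  obtain ⟨d, hd, hA, h⟩ := exists_mono_vec 2 (T := O2) (T' := O) (S := S)
    (R := {some 0, some 12}) (N22_le hσ) h1 (fun d => none ∉ d ∧ some 0 ∉ d) (mem_N22_smul hσ) hS (by
      have h3 : symmDiff (σ⁻¹ • S) {some 0, some 12} ⊆ O2 := by
        intro x hx
        rcases Finset.mem_symmDiff.1 hx with h | h
        · exact hσS h.1
        · exact hR h.1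
      obtain ⟨d, hd, h4⟩ := sign_O2 h3 (even_card_symmDiff
        (by rw [Finset.card_smul_finset]; exact he) (by decide))
      refine ⟨d, hd, ⟨?_, ?_⟩, h4⟩
      · intro h
        have h5 : none ∈ d ∩ O2 := Finset.mem_inter.2 ⟨h, m1⟩
        rw [h4, Finset.mem_symmDiff] at h5
        rcases h5 with h5 | h5
        · exact hn' h5.1
        · exact absurd h5.1 (by decide)
      · intro h
        have h5 : some 0 ∈ d ∩ O2 := Finset.mem_inter.2 ⟨h, m2⟩
        rw [h4, Finset.mem_symmDiff] at h5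
        rcases h5 with h5 | h5
        · exact h5.2 (by decide)
        · exact h5.2 h0') hR
  refine ⟨monomial σ (N22_le hσ) d hd, mono_fix hσ hd hA a0 a0_eq, mono_fix hσ hd hA b0 b0_eq, ?_⟩
  apply Subtype.ext
  rw [monomial_smul, hv]
  exact h

theorem orb4 (v : leechLattice) {j : GolayPt} {d : Finset GolayPt} (hj1 : j ≠ none)
    (hj2 : j ≠ some 0) (hd : d ∈ SC) (hn : none ∉ d) (h0 : some 0 ∈ d)
    (hv : (v : GolayPt → ℤ) = odd j d) : Rc (⟨_, r4_mem⟩ : leechLattice) v := by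
  obtain ⟨σ, hσ, h1⟩ := exists_N22_point hj1 hj2
  obtain ⟨hσM, hσn, hσ0⟩ := mem_N22.1 hσ
  have b1 : none ∉ fin 1302533 := by decide +kernel
  have b2 : some 0 ∈ fin 1302533 := by decide +kernel
  have a1 := mem_smul_iff σ (fin 1302533) none
  have a2 := mem_smul_iff σ (fin 1302533) (some 0)
  rw [hσn] at a1
  rw [hσ0] at a2
  have he : symmDiff d (σ • fin 1302533) ∈ SC :=
    symmDiff_mem_supports hd ((smul_mem_supports hσM).2 d1_mem)
  have hA : none ∉ symmDiff d (σ • fin 1302533) ∧ some 0 ∉ symmDiff d (σ • fin 1302533) := by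
    refine ⟨?_, ?_⟩
    · intro h
      rcases Finset.mem_symmDiff.1 h with h | h
      · exact hn h.1
      · exact b1 (a1.1 h.1)
    · intro h
      rcases Finset.mem_symmDiff.1 h with h | h
      · exact h.2 (a2.2 b2)
      · exact h.2 h0
  refine ⟨monomial σ (N22_le hσ) _ he, mono_fix hσ he hA a0 a0_eq, mono_fix hσ he hA b0 b0_eq, ?_⟩
  apply Subtype.ext
  rw [monomial_smul, hv]
  show signedPerm σ _ (odd (some 1) (fin 1302533)) = odd j d
  rw [signedPerm_odd, h1, symmDiff_symmDiff_cancel_right]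

/-- A sign change on the support. -/
theorem neg_of_supp (v : leechLattice) {e : Finset GolayPt} (he : e ∈ SC) (h1 : none ∉ e ∧ some 0 ∉ e)
    (hv : ∀ i, i ∉ e → (v : GolayPt → ℤ) i = 0) : ∃ g : Co0, g • a0 = a0 ∧ g • b0 = b0 ∧ g • v = -v := by
  have h1' : (1 : Equiv.Perm GolayPt) ∈ N22 := N22.one_mem
  refine ⟨monomial 1 (N22_le h1') e he, mono_fix h1' he h1 a0 a0_eq, mono_fix h1' he h1 b0 b0_eq, ?_⟩
  apply Subtype.ext
  funext i
  rw [monomial_smul, signedPerm_apply]
  show (if i ∈ e then -(v : GolayPt → ℤ) i else (v : GolayPt → ℤ) i) = -(v : GolayPt → ℤ) i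
  split_ifs with h
  · rfl
  · rw [hv i h, neg_zero]

theorem dot_v0' {x : leechLattice} (h : dt a0 x = 0) : dotInt (x : GolayPt → ℤ) (v0 : GolayPt → ℤ) = 0 := by
  rw [v0_eq]
  show dt x a0 = 0
  rw [dt_comm, h]

theorem T0_cases {x : leechLattice} (h : (x : GolayPt → ℤ) ∈ T0) : x = b0 ∨ x = -b0 := by
  rcases h with h | h
  · left
    apply Subtype.ext
    rw [h]
    funext i
    show vec 4 {none, some 0} {some 0} i = Spor.vecU' i
    revert i
    unfold Spor.vecU'
    decide
  · right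
    apply Subtype.ext
    rw [h]
    funext i
    show vec 4 {none, some 0} {none} i = -Spor.vecU' i
    revert i
    unfold Spor.vecU'
    decide

/-- The vectors orthogonal to both are moved to their negatives. -/
theorem exists_neg {x : leechLattice} (h1 : dt x x = 32) (h2 : dt a0 x = 0) (h3 : dt b0 x = 0) :
    ∃ g : Co0, g • a0 = a0 ∧ g • b0 = b0 ∧ g • x = -x := by
  have h3' := h3
  rw [dt_b0] at h3'
  rcases classify (w := x) (by rw [norm_eq]; exact h1) (dot_v0' h2) with h | h | h | h | h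
  · exfalso
    rcases T0_cases h with rfl | rfl
    · exact absurd h3 (by rw [Cfsg.Agent.SporadicStructure.Co2RankThree.dt_b0_b0]; norm_num)
    · rw [Cfsg.Agent.SporadicStructure.Co2RankThree.dt_neg_right,
        Cfsg.Agent.SporadicStructure.Co2RankThree.dt_b0_b0] at h3
      norm_num at h3
  · obtain ⟨T, S, ⟨hT, hn, h0⟩, hS, hv⟩ := h
    obtain ⟨p, q, hpq, rfl⟩ := Finset.card_eq_two.1 hT
    simp only [Finset.mem_insert, Finset.mem_singleton, not_or] at hn h0
    obtain ⟨σ, hσ, e1, e2⟩ := exists_N22_pair hpq (fun h => hn.1 h.symm) (fun h => h0.1 h.symm)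
      (fun h => hn.2 h.symm) (fun h => h0.2 h.symm)
    obtain ⟨d, hd, hA, hdS⟩ := sign_T1 (S := {some 1, some 2}) (Finset.Subset.refl _)
    refine neg_of_supp x (e := σ • d) ((smul_mem_supports (N22_le hσ)).2 hd) (mem_N22_smul hσ d hA) ?_
    intro i hi
    rw [hv, vec_apply, if_neg]
    intro hi2
    apply hi
    have key : ∀ j ∈ ({some 1, some 2} : Finset GolayPt), σ j ∈ σ • d := by
      intro j hj
      have : j ∈ d := by
        have h5 : j ∈ d ∩ {some 1, some 2} := by rw [hdS]; exact hj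
        exact (Finset.mem_inter.1 h5).1
      exact Finset.smul_mem_smul_finset this
    rcases (by simpa using hi2 : i = p ∨ i = q) with rfl | rfl
    · rw [← e1]; exact key _ (by simp)
    · rw [← e2]; exact key _ (by simp)
  · exfalso
    obtain ⟨O, S, ⟨-, hnO, h0O⟩, ⟨-, -, hn0⟩, hv⟩ := h
    rw [hv, vec_apply, vec_apply, if_pos hnO, if_pos h0O] at h3'
    by_cases h5 : none ∈ S
    · have h6 := hn0.1 h5
      rw [if_pos h5, if_neg h6] at h3'
      omega
    · have h6 : some 0 ∈ S := by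
        by_contra h6
        exact h5 (hn0.2 h6)
      rw [if_neg h5, if_pos h6] at h3'
      omega
  · obtain ⟨O, S, ⟨hO, hn, h0⟩, -, hv⟩ := h
    refine neg_of_supp x (e := O) hO.1 ⟨hn, h0⟩ ?_
    intro i hi
    rw [hv, vec_apply, if_neg hi]
  · exfalso
    obtain ⟨j, d, ⟨hj1, hj2⟩, ⟨hd, hn0⟩, hv⟩ := h
    rw [hv, odd_apply, odd_apply, if_neg (Ne.symm hj1), if_neg (Ne.symm hj2)] at h3'
    by_cases h5 : none ∈ d
    · have h6 := hn0.1 h5
      rw [if_pos h5, if_neg h6] at h3'
      omega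
    · have h6 : some 0 ∈ d := by
        by_contra h6
        exact h5 (hn0.2 h6)
      rw [if_neg h5, if_pos h6] at h3'
      omega

theorem cases16 {x : leechLattice} (h1 : dt x x = 32) (h2 : dt a0 x = 0) (h3 : dt b0 x = 16) :
    Rc (⟨_, r2_mem⟩ : leechLattice) x := by
  have h3' := h3
  rw [dt_b0] at h3'
  rcases classify (w := x) (by rw [norm_eq]; exact h1) (dot_v0' h2) with h | h | h | h | h
  · exfalso
    rcases T0_cases h with rfl | rfl
    · rw [Cfsg.Agent.SporadicStructure.Co2RankThree.dt_b0_b0] at h3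
      norm_num at h3
    · rw [Cfsg.Agent.SporadicStructure.Co2RankThree.dt_neg_right,
        Cfsg.Agent.SporadicStructure.Co2RankThree.dt_b0_b0] at h3
      norm_num at h3
  · exfalso
    obtain ⟨T, S, ⟨hT, hn, h0⟩, hS, hv⟩ := h
    rw [hv, vec_apply, vec_apply, if_neg hn, if_neg h0] at h3'
    omega
  · obtain ⟨O, S, ⟨hO, hnO, h0O⟩, ⟨hS, he, hn0⟩, hv⟩ := h
    rw [hv, vec_apply, vec_apply, if_pos hnO, if_pos h0O] at h3'
    by_cases h5 : none ∈ S
    · have h6 := hn0.1 h5
      rw [if_pos h5, if_neg h6] at h3'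
      omega
    · have h6 : some 0 ∈ S := by
        by_contra h6
        exact h5 (hn0.2 h6)
      exact orb2 x hO hnO h0O hS he h5 h6 hv
  · exfalso
    obtain ⟨O, S, ⟨hO, hn, h0⟩, -, hv⟩ := h
    rw [hv, vec_apply, vec_apply, if_neg hn, if_neg h0] at h3'
    omega
  · exfalso
    obtain ⟨j, d, ⟨hj1, hj2⟩, ⟨hd, hn0⟩, hv⟩ := h
    rw [hv, odd_apply, odd_apply, if_neg (Ne.symm hj1), if_neg (Ne.symm hj2)] at h3'
    split_ifs at h3' <;> omega

theorem cases8 {x : leechLattice} (h1 : dt x x = 32) (h2 : dt a0 x = 0) (h3 : dt b0 x = 8) :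
    Rc (⟨_, r4_mem⟩ : leechLattice) x := by
  have h3' := h3
  rw [dt_b0] at h3'
  rcases classify (w := x) (by rw [norm_eq]; exact h1) (dot_v0' h2) with h | h | h | h | h
  · exfalso
    rcases T0_cases h with rfl | rfl
    · rw [Cfsg.Agent.SporadicStructure.Co2RankThree.dt_b0_b0] at h3
      norm_num at h3
    · rw [Cfsg.Agent.SporadicStructure.Co2RankThree.dt_neg_right,
        Cfsg.Agent.SporadicStructure.Co2RankThree.dt_b0_b0] at h3
      norm_num at h3
  · exfalso
    obtain ⟨T, S, ⟨hT, hn, h0⟩, hS, hv⟩ := h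
    rw [hv, vec_apply, vec_apply, if_neg hn, if_neg h0] at h3'
    omega
  · exfalso
    obtain ⟨O, S, ⟨hO, hnO, h0O⟩, ⟨hS, he, hn0⟩, hv⟩ := h
    rw [hv, vec_apply, vec_apply, if_pos hnO, if_pos h0O] at h3'
    split_ifs at h3' <;> omega
  · exfalso
    obtain ⟨O, S, ⟨hO, hn, h0⟩, -, hv⟩ := h
    rw [hv, vec_apply, vec_apply, if_neg hn, if_neg h0] at h3'
    omega
  · obtain ⟨j, d, ⟨hj1, hj2⟩, ⟨hd, hn0⟩, hv⟩ := h
    rw [hv, odd_apply, odd_apply, if_neg (Ne.symm hj1), if_neg (Ne.symm hj2)] at h3'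
    by_cases h5 : none ∈ d
    · have h6 := hn0.1 h5
      rw [if_pos h5, if_neg h6] at h3'
      omega
    · have h6 : some 0 ∈ d := by
        by_contra h6
        exact h5 (hn0.2 h6)
      exact orb4 x hj1 hj2 hd h5 h6 hv

theorem trans16 {x y : leechLattice} (h1 : dt x x = 32) (h2 : dt a0 x = 0) (h3 : dt b0 x = 16)
    (h1' : dt y y = 32) (h2' : dt a0 y = 0) (h3' : dt b0 y = 16) : Rc x y :=
  (cases16 h1 h2 h3).trans' (cases16 h1' h2' h3')

theorem trans8 {x y : leechLattice} (h1 : dt x x = 32) (h2 : dt a0 x = 0) (h3 : dt b0 x = 8)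
    (h1' : dt y y = 32) (h2' : dt a0 y = 0) (h3' : dt b0 y = 8) : Rc x y :=
  (cases8 h1 h2 h3).trans' (cases8 h1' h2' h3')

end Cfsg.Agent.H714.DG.CoTwoG
end

-- part: H714/DG/CoTwoX
section
set_option linter.all false
open scoped Cfsg.Agent.FastGrp

/-!
# `Co2`: an irreducible character of degree `44275 = 5² · 7 · 11 · 23` (helper714)

The action on the `93150` minimal vectors orthogonal to a given one; the functions orthogonal to the even functions and
to the polynomial functions of degrees `1` and `3`.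
-/

set_option autoImplicit false
open scoped Pointwise
open Cfsg

namespace Cfsg.Agent.H714.DG.CoTwoX

open Cfsg.Agent.H714.DG.CoTwoG Cfsg.Agent.H714.DG.Top
open Cfsg.Agent.SporadicA.GolayBase Cfsg.Agent.SporadicA.GolayPerm
open Cfsg.Agent.SporadicStructure.MinShapes Cfsg.Agent.SporadicStructure.MonoPerms
open Cfsg.Agent.SporadicStructure.MonoSigns Cfsg.Agent.SporadicStructure.MonoTypes
open Cfsg.Agent.SporadicStructure.CrossMax
open Cfsg.Agent.SporadicStructure.Co2RankThree (dt a0 b0 dt_a0 dt_b0 norm_eq dt_comm dt_smul dt_smul_of_fix toCo0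
  toCo0_a0 ofCo0 ncard_orth dt_a0_a0 dt_b0_b0 dt_a0_b0 dt_neg_left dt_neg_right dt_sub_left dt_sub_right ncard_coe)
open Cfsg.Agent.H419.LeechIrr (toC matC repC repC_toC)

/-- The minimal vectors orthogonal to `a0`. -/
def X : Type := {w : leechLattice // dt w w = 32 ∧ dt a0 w = 0}

instance actX : MulAction Spor.Co2 X where
  smul γ x := ⟨toCo0 γ • x.1, (dt_smul _ _ _).trans x.2.1, (dt_smul_of_fix (toCo0_a0 γ) _).trans x.2.2⟩
  one_smul _ := rfl
  mul_smul _ _ _ := rfl

theorem nat_card_X : Nat.card X = 93150 := ncard_orth a0 dt_a0_a0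

instance finX : Finite X := Nat.finite_of_card_ne_zero (by rw [nat_card_X]; norm_num)

noncomputable instance ftX : Fintype X := Fintype.ofFinite X

theorem card_X : Fintype.card X = 93150 := by rw [← Nat.card_eq_fintype_card, nat_card_X]

/-- The negative. -/
def ng (x : X) : X := ⟨-x.1, by rw [dt_neg_left, dt_neg_right, neg_neg]; exact x.2.1, by rw [dt_neg_right, x.2.2, neg_zero]⟩

theorem ng_ng (x : X) : ng (ng x) = x := Subtype.ext (neg_neg _)

theorem co0_neg (g : Co0) (a : leechLattice) : g • (-a) = -(g • a) := by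
  have h := Cfsg.Agent.Leech.FrameAux.co0_sub g 0 a
  have h0 : g • (0 : leechLattice) = 0 := by
    have := Cfsg.Agent.Leech.FrameAux.co0_sub g 0 0
    rw [sub_self, sub_self] at this
    exact this
  rw [zero_sub, h0, zero_sub] at h
  exact h

theorem ng_smul (γ : Spor.Co2) (x : X) : ng (γ • x) = γ • ng x := Subtype.ext (co0_neg _ _).symm

theorem ng_ne (x : X) : ng x ≠ x := by
  intro h
  have h1 : -x.1 = x.1 := congrArg Subtype.val h
  have h2 := x.2.1
  have h3 : dt (-x.1) x.1 = dt x.1 x.1 := by rw [h1]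
  rw [dt_neg_left, h2] at h3
  norm_num at h3

/-- The base point. -/
def x₀ : X := ⟨b0, dt_b0_b0, dt_a0_b0⟩

instance preX : MulAction.IsPretransitive Spor.Co2 X := by
  have key : ∀ x : X, ∃ γ : Spor.Co2, γ • x = x₀ := by
    intro x
    obtain ⟨g, h1, h2⟩ := Cfsg.Agent.Leech.FrameTriples.orth_pair a0 x.1 (by rw [norm_eq]; exact dt_a0_a0)
      (by rw [norm_eq]; exact x.2.1) x.2.2
    have h1' : g • a0 = a0 := Subtype.ext (h1.trans Cfsg.Agent.SporadicStructure.Co2RankThree.coe_a0.symm)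
    have h2' : g • x.1 = b0 := Subtype.ext (h2.trans Cfsg.Agent.SporadicStructure.Co2RankThree.coe_b0.symm)
    exact ⟨ofCo0 g h1', Subtype.ext h2'⟩
  constructor
  intro x y
  obtain ⟨γ, hγ⟩ := key x
  obtain ⟨δ, hδ⟩ := key y
  exact ⟨δ⁻¹ * γ, by rw [mul_smul, hγ, ← hδ, inv_smul_smul]⟩

/-! ### the inner product with the base point -/

/-- The inner product with the base point. -/
def tt (x : X) : ℤ := dt b0 x.1

theorem tt_ng (x : X) : tt (ng x) = -tt x := dt_neg_right _ _

theorem tt_le (x : X) : tt x ≤ 16 ∨ x = x₀ := by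
  by_cases h : b0 - x.1 = 0
  · right
    exact Subtype.ext (sub_eq_zero.1 h).symm
  · left
    have h1 := Cfsg.Agent.Leech.Basic.le_sqNorm (b0 - x.1).2 (fun h0 => h (Subtype.ext h0))
    rw [norm_eq] at h1
    have h2 := x.2.1
    have h3 : tt x = dt b0 x.1 := rfl
    rw [dt_sub_left, dt_sub_right, dt_sub_right, dt_b0_b0, dt_comm x.1 b0, h2, ← h3] at h1
    omega

theorem tt_cases (x : X) : tt x = 32 ∧ x = x₀ ∨ tt x = -32 ∧ x = ng x₀ ∨ tt x = 16 ∨ tt x = -16 ∨ tt x = 8 ∨
    tt x = -8 ∨ tt x = 0 := by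
  obtain ⟨k, hk⟩ := Cfsg.Agent.Leech.Basic.eight_dvd_dotInt b0.2 x.1.2
  have hk' : tt x = 8 * k := hk
  rcases tt_le x with h | h
  · rcases tt_le (ng x) with h' | h'
    · rw [tt_ng] at h'
      omega
    · right; left
      have h2 : x = ng x₀ := by rw [← h', ng_ng]
      refine ⟨?_, h2⟩
      rw [h2, tt_ng]
      show -dt b0 b0 = -32
      rw [dt_b0_b0]
  · left
    refine ⟨?_, h⟩
    rw [h]
    exact dt_b0_b0

/-- The class. -/
def cls (x : X) : Fin 7 :=
  if tt x = 32 then 0 else if tt x = -32 then 1 else if tt x = 16 then 2 else if tt x = -16 then 3 else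
  if tt x = 8 then 4 else if tt x = -8 then 5 else 6

/-- The values. -/
def tv : Fin 7 → ℤ := ![32, -32, 16, -16, 8, -8, 0]

theorem tt_eq (x : X) : tt x = tv (cls x) := by
  unfold cls
  rcases tt_cases x with h | h | h | h | h | h | h
  · rw [h.1]; decide
  · rw [h.1]; decide
  all_goals rw [h]; decide

theorem cls_eq_iff (x : X) (j : Fin 7) : cls x = j ↔ tt x = tv j := by
  constructor
  · rintro rfl
    exact tt_eq x
  · intro h
    rw [tt_eq] at h
    have key : ∀ i j : Fin 7, tv i = tv j → i = j := by decide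
    exact key _ _ h

/-! ### counting -/

theorem val_inj : Function.Injective (fun x : X => x.1) := fun _ _ h => Subtype.ext h

theorem card_filter_eq (P : leechLattice → Prop) [DecidablePred fun x : X => P x.1] :
    (Finset.univ.filter fun x : X => P x.1).card = {w : leechLattice | (dt w w = 32 ∧ dt a0 w = 0) ∧ P w}.ncard := by
  classical
  have h := Set.ncard_image_of_injective ((Finset.univ.filter fun x : X => P x.1 : Finset X) : Set X) val_inj
  rw [Set.ncard_coe_finset] at h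
  rw [← h]
  congr 1
  ext w
  constructor
  · rintro ⟨x, hx, rfl⟩
    exact ⟨x.2, (Finset.mem_filter.1 (Finset.mem_coe.1 hx)).2⟩
  · rintro ⟨h1, h2⟩
    exact ⟨⟨w, h1⟩, Finset.mem_coe.2 (Finset.mem_filter.2 ⟨Finset.mem_univ _, h2⟩), rfl⟩

theorem sqNorm_vec2 {O S : Finset GolayPt} (hO : O ∈ octads) : sqNorm (vec 2 O S) = 32 := by
  have h8 : O.card = 8 := hO.2
  unfold sqNorm
  have : ∀ i, (vec 2 O S i) ^ 2 = if i ∈ O then 4 else 0 := by
    intro i
    rw [vec_apply]
    split_ifs <;> norm_num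
  rw [Finset.sum_congr rfl fun i _ => this i, Finset.sum_ite_mem, Finset.univ_inter, Finset.sum_const, h8]
  norm_num

theorem sqNorm_odd (j : GolayPt) (d : Finset GolayPt) : sqNorm (odd j d) = 32 := by
  unfold sqNorm
  have : ∀ i, (odd j d i) ^ 2 = if i = j then 9 else 1 := by
    intro i
    rw [odd_apply]
    split_ifs <;> norm_num
  rw [Finset.sum_congr rfl fun i _ => this i, Finset.sum_ite, Finset.sum_const, Finset.sum_const]
  have h1 : (Finset.univ.filter fun i : GolayPt => i = j).card = 1 := by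
    rw [Finset.filter_eq' Finset.univ j, if_pos (Finset.mem_univ _), Finset.card_singleton]
  have h2 : (Finset.univ.filter fun i : GolayPt => ¬ i = j).card = 23 := by
    have h3 := Finset.card_filter_add_card_filter_not (s := (Finset.univ : Finset GolayPt)) fun i => i = j
    rw [card_pt, h1] at h3
    omega
  rw [h1, h2]
  norm_num

/-- The vectors of inner product `± 16`. -/
theorem mem_T2_iff (w : leechLattice) : ((dt w w = 32 ∧ dt a0 w = 0) ∧ (dt b0 w = 16 ∨ dt b0 w = -16)) ↔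
    (w : GolayPt → ℤ) ∈ T2 := by
  constructor
  · rintro ⟨⟨h1, h2⟩, h3⟩
    rcases classify (w := w) (by rw [norm_eq]; exact h1) (dot_v0' h2) with h | h | h | h | h
    · exfalso
      rcases T0_cases h with rfl | rfl
      · rw [dt_b0_b0] at h3
        norm_num at h3
      · rw [dt_neg_right, dt_b0_b0] at h3
        norm_num at h3
    · exfalso
      rw [dt_b0] at h3
      obtain ⟨T, S, ⟨hT, hn, h0⟩, hS, hv⟩ := h
      rw [hv, vec_apply, vec_apply, if_neg hn, if_neg h0] at h3
      omega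
    · exact h
    · exfalso
      rw [dt_b0] at h3
      obtain ⟨O, S, ⟨hO, hn, h0⟩, -, hv⟩ := h
      rw [hv, vec_apply, vec_apply, if_neg hn, if_neg h0] at h3
      omega
    · exfalso
      rw [dt_b0] at h3
      obtain ⟨j, d, ⟨hj1, hj2⟩, ⟨hd, hn0⟩, hv⟩ := h
      rw [hv, odd_apply, odd_apply, if_neg (Ne.symm hj1), if_neg (Ne.symm hj2)] at h3
      by_cases h5 : none ∈ d
      · have h6 := hn0.1 h5
        rw [if_pos h5, if_neg h6] at h3
        omega
      · have h6 : some 0 ∈ d := by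
          by_contra h6
          exact h5 (hn0.2 h6)
        rw [if_neg h5, if_pos h6] at h3
        omega
  · rintro ⟨O, S, ⟨hO, hnO, h0O⟩, ⟨hS, he, hn0⟩, hv⟩
    rw [dt_a0, dt_b0, ← norm_eq, hv, vec_apply, vec_apply, if_pos hnO, if_pos h0O]
    by_cases h5 : none ∈ S
    · have h6 := hn0.1 h5
      rw [if_pos h5, if_neg h6]
      exact ⟨⟨sqNorm_vec2 hO, by norm_num⟩, by norm_num⟩
    · have h6 : some 0 ∈ S := by
        by_contra h6
        exact h5 (hn0.2 h6)
      rw [if_neg h5, if_pos h6]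
      exact ⟨⟨sqNorm_vec2 hO, by norm_num⟩, by norm_num⟩

/-- The vectors of inner product `± 8`. -/
theorem mem_T4_iff (w : leechLattice) : ((dt w w = 32 ∧ dt a0 w = 0) ∧ (dt b0 w = 8 ∨ dt b0 w = -8)) ↔
    (w : GolayPt → ℤ) ∈ T4 := by
  constructor
  · rintro ⟨⟨h1, h2⟩, h3⟩
    rcases classify (w := w) (by rw [norm_eq]; exact h1) (dot_v0' h2) with h | h | h | h | h
    · exfalso
      rcases T0_cases h with rfl | rfl
      · rw [dt_b0_b0] at h3
        norm_num at h3
      · rw [dt_neg_right, dt_b0_b0] at h3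
        norm_num at h3
    · exfalso
      rw [dt_b0] at h3
      obtain ⟨T, S, ⟨hT, hn, h0⟩, hS, hv⟩ := h
      rw [hv, vec_apply, vec_apply, if_neg hn, if_neg h0] at h3
      omega
    · exfalso
      rw [dt_b0] at h3
      obtain ⟨O, S, ⟨hO, hnO, h0O⟩, ⟨hS, he, hn0⟩, hv⟩ := h
      rw [hv, vec_apply, vec_apply, if_pos hnO, if_pos h0O] at h3
      split_ifs at h3 <;> omega
    · exfalso
      rw [dt_b0] at h3
      obtain ⟨O, S, ⟨hO, hn, h0⟩, -, hv⟩ := h
      rw [hv, vec_apply, vec_apply, if_neg hn, if_neg h0] at h3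
      omega
    · exact h
  · rintro ⟨j, d, ⟨hj1, hj2⟩, ⟨hd, hn0⟩, hv⟩
    rw [dt_a0, dt_b0, ← norm_eq, hv, odd_apply, odd_apply, if_neg (Ne.symm hj1), if_neg (Ne.symm hj2)]
    by_cases h5 : none ∈ d
    · have h6 := hn0.1 h5
      rw [if_pos h5, if_neg h6]
      exact ⟨⟨sqNorm_odd _ _, by norm_num⟩, by norm_num⟩
    · have h6 : some 0 ∈ d := by
        by_contra h6
        exact h5 (hn0.2 h6)
      rw [if_neg h5, if_pos h6]
      exact ⟨⟨sqNorm_odd _ _, by norm_num⟩, by norm_num⟩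

theorem ncard_of_T {P : leechLattice → Prop} {T : Set (GolayPt → ℤ)} (hT : ∀ x ∈ T, x ∈ leechLattice)
    (h : ∀ w : leechLattice, P w ↔ (w : GolayPt → ℤ) ∈ T) : {w : leechLattice | P w}.ncard = T.ncard := by
  have h1 : {w : leechLattice | P w} = {w : leechLattice | (fun x => x ∈ T) (w : GolayPt → ℤ)} := by
    ext w
    exact h w
  rw [h1, ncard_coe]
  congr 1
  ext x
  exact ⟨fun h => h.2, fun h => ⟨hT x h, h⟩⟩

open Classical in
/-- The number of elements of a class. -/
theorem card_t (t : ℤ) : (Finset.univ.filter fun x : X => tt x = t).card =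
    (Finset.univ.filter fun x : X => tt x = -t).card := by
  refine Finset.card_nbij' ng ng ?_ ?_ (fun x _ => ng_ng x) (fun x _ => ng_ng x)
  · intro x hx
    have h1 := (Finset.mem_filter.1 (Finset.mem_coe.1 hx)).2
    exact Finset.mem_coe.2 (Finset.mem_filter.2 ⟨Finset.mem_univ _, by rw [tt_ng, h1]⟩)
  · intro x hx
    have h1 := (Finset.mem_filter.1 (Finset.mem_coe.1 hx)).2
    exact Finset.mem_coe.2 (Finset.mem_filter.2 ⟨Finset.mem_univ _, by rw [tt_ng, h1, neg_neg]⟩)

open Classical in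
theorem card_or {s t : ℤ} (h : s ≠ t) : (Finset.univ.filter fun x : X => tt x = s ∨ tt x = t).card =
    (Finset.univ.filter fun x : X => tt x = s).card + (Finset.univ.filter fun x : X => tt x = t).card := by
  rw [Finset.filter_or, Finset.card_union_of_disjoint]
  rw [Finset.disjoint_filter]
  intro x _ h1 h2
  exact h (h1.symm.trans h2)

open Classical in
theorem card_16 : (Finset.univ.filter fun x : X => tt x = 16).card = 2464 ∧
    (Finset.univ.filter fun x : X => tt x = -16).card = 2464 := by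
  have h1 := card_filter_eq (fun w => dt b0 w = 16 ∨ dt b0 w = -16)
  rw [ncard_of_T Cfsg.Agent.SporadicStructure.CrossMaxEnd.mem_T2 mem_T2_iff, ncard_T2] at h1
  have h2 := card_or (s := 16) (t := -16) (by norm_num)
  have h3 := card_t 16
  have h4 : (Finset.univ.filter fun x : X => tt x = 16 ∨ tt x = -16).card = 4928 := h1
  rw [h4] at h2
  omega

open Classical in
theorem card_8 : (Finset.univ.filter fun x : X => tt x = 8).card = 22528 ∧
    (Finset.univ.filter fun x : X => tt x = -8).card = 22528 := by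
  have h1 := card_filter_eq (fun w => dt b0 w = 8 ∨ dt b0 w = -8)
  rw [ncard_of_T Cfsg.Agent.SporadicStructure.CrossMaxEnd.mem_T4 mem_T4_iff, ncard_T4] at h1
  have h2 := card_or (s := 8) (t := -8) (by norm_num)
  have h3 := card_t 8
  have h4 : (Finset.univ.filter fun x : X => tt x = 8 ∨ tt x = -8).card = 45056 := h1
  rw [h4] at h2
  omega

open Classical in
theorem card_32 : (Finset.univ.filter fun x : X => tt x = 32).card = 1 ∧
    (Finset.univ.filter fun x : X => tt x = -32).card = 1 := by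
  have h1 : (Finset.univ.filter fun x : X => tt x = 32) = {x₀} := by
    ext x
    simp only [Finset.mem_filter, Finset.mem_univ, true_and, Finset.mem_singleton]
    constructor
    · intro h
      rcases tt_cases x with h' | h' | h' | h' | h' | h' | h'
      · exact h'.2
      all_goals omega
    · rintro rfl
      exact dt_b0_b0
  have h2 := card_t 32
  rw [h1, Finset.card_singleton] at h2
  rw [h1, Finset.card_singleton]
  exact ⟨rfl, h2.symm⟩

/-- The sizes of the classes. -/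
def N : Fin 7 → ℕ := ![1, 1, 2464, 2464, 22528, 22528, 43164]

open Classical in
theorem sum_cls {M : Type*} [AddCommMonoid M] (F : Fin 7 → M) :
    ∑ x : X, F (cls x) = ∑ j, (Finset.univ.filter fun x : X => cls x = j).card • F j := by
  rw [← Finset.sum_fiberwise_of_maps_to (s := (Finset.univ : Finset X)) (t := (Finset.univ : Finset (Fin 7)))
    (g := cls) (fun _ _ => Finset.mem_univ _)]
  refine Finset.sum_congr rfl fun j _ => ?_
  rw [← Finset.sum_const]
  refine Finset.sum_congr rfl fun x hx => ?_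
  rw [(Finset.mem_filter.1 hx).2]

open Classical in
theorem card_cls (j : Fin 7) : (Finset.univ.filter fun x : X => cls x = j).card = N j := by
  have h0 : ∀ j, (Finset.univ.filter fun x : X => cls x = j) = Finset.univ.filter fun x : X => tt x = tv j := by
    intro j
    ext x
    simp only [Finset.mem_filter, Finset.mem_univ, true_and]
    exact cls_eq_iff x j
  have key : ∀ j, j ≠ 6 → (Finset.univ.filter fun x : X => cls x = j).card = N j := by
    intro j hj
    rw [h0]
    fin_cases j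
    · exact card_32.1
    · exact card_32.2
    · exact card_16.1
    · exact card_16.2
    · exact card_8.1
    · exact card_8.2
    · exact absurd rfl hj
  by_cases hj : j = 6
  · subst hj
    have h1 := sum_cls (fun _ => (1 : ℕ))
    simp only [Finset.sum_const, Finset.card_univ, smul_eq_mul, mul_one, card_X] at h1
    rw [Fin.sum_univ_seven] at h1
    rw [key 0 (by decide), key 1 (by decide), key 2 (by decide), key 3 (by decide), key 4 (by decide),
      key 5 (by decide)] at h1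
    have e : N 0 + N 1 + N 2 + N 3 + N 4 + N 5 = 49986 := by decide
    have e6 : N 6 = 43164 := by decide
    omega
  · exact key j hj

/-! ### the space -/

/-- The coordinates. -/
def co (x : X) : GolayPt → ℂ := toC x.1

theorem co_lin (γ : Spor.Co2) : ∃ A : GolayPt → GolayPt → ℂ, ∀ x i, co (γ • x) i = ∑ j, A i j * co x j := by
  refine ⟨matC (toCo0 γ), fun x i => ?_⟩
  show toC (toCo0 γ • x.1) i = _
  rw [← repC_toC]
  show Matrix.toLin' (matC (toCo0 γ)) (toC x.1) i = _
  rw [Matrix.toLin'_apply]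
  rfl

theorem sum_co (x : X) : ∑ j, toC b0 j * co x j = ((tt x : ℤ) : ℂ) := by
  unfold tt dt dotInt
  rw [Int.cast_sum]
  refine Finset.sum_congr rfl fun i _ => ?_
  rw [Int.cast_mul]
  rfl

open Classical in
/-- The even functions. -/
noncomputable def ev (x : X) : X → ℂ := fun y => (if y = x then 1 else 0) + (if y = ng x then 1 else 0)

/-- The space of even functions. -/
noncomputable def EvenS : Submodule ℂ (X → ℂ) := Submodule.span ℂ (Set.range ev)

theorem ncard_ev : 2 * (Set.range ev).ncard = 93150 := by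
  rw [← Set.image_univ, Cfsg.Agent.SporadicStructure.RankThreeIndex.two_mul_ncard_image ev ng Set.univ Set.finite_univ
    (fun _ _ => Set.mem_univ _) (fun w _ => ng_ne w), Set.ncard_univ, nat_card_X]
  intro w _ w' _
  constructor
  · intro h
    by_contra hcon
    push Not at hcon
    have h1 := congrFun h w'
    unfold ev at h1
    rw [if_pos rfl, if_neg (ng_ne w').symm, if_neg hcon.1, if_neg hcon.2] at h1
    norm_num at h1
  · rintro (rfl | rfl)
    · rfl
    · funext y
      unfold ev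
      rw [ng_ng, add_comm]

theorem finrank_EvenS : Module.finrank ℂ EvenS ≤ 46575 := by
  classical
  have h1 := finrank_span_le_card (R := ℂ) (Set.range ev)
  rw [← Set.ncard_eq_toFinset_card'] at h1
  have h2 := ncard_ev
  unfold EvenS
  omega

theorem EvenS_inv (γ : Spor.Co2) : ∀ φ ∈ EvenS, (fun x => φ (γ⁻¹ • x)) ∈ EvenS := by
  refine span_inv ?_ γ
  rintro γ _ ⟨x, rfl⟩
  refine Submodule.subset_span ⟨γ • x, ?_⟩
  funext y
  show ev (γ • x) y = ev x (γ⁻¹ • y)
  unfold ev
  rw [ng_smul]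
  have h1 : ∀ z : X, (y = γ • z) = (γ⁻¹ • y = z) := fun z => propext inv_smul_eq_iff.symm
  rw [h1, h1]

/-- The functions. -/
noncomputable def V : Submodule ℂ (X → ℂ) := perp (Pol co 1 ⊔ (Pol co 3 ⊔ EvenS))

theorem V_inv (γ : Spor.Co2) : ∀ φ ∈ V, (fun x => φ (γ⁻¹ • x)) ∈ V :=
  perp_inv (sup_inv (Pol_inv co co_lin 1) (sup_inv (Pol_inv co co_lin 3) EvenS_inv)) γ

theorem V_ne : V ≠ ⊥ := by
  refine perp_ne_bot ?_
  have h1 := Submodule.finrank_add_le_finrank_add_finrank (Pol co 1) (Pol co 3 ⊔ EvenS)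
  have h2 := Submodule.finrank_add_le_finrank_add_finrank (Pol co 3) EvenS
  have h3 := finrank_Pol_le co 1
  have h4 := finrank_Pol_le co 3
  have h5 := finrank_EvenS
  have e : Fintype.card GolayPt = 24 := card_pt
  rw [e] at h3 h4
  have e1 : (24 : ℕ).multichoose 1 = 24 := Nat.multichoose_one_right 24
  have e3 : (24 : ℕ).multichoose 3 = 2600 := by rw [Nat.multichoose_eq]; decide
  rw [card_X]
  omega

open Classical in
theorem odd_of_mem {φ : X → ℂ} (h : φ ∈ V) (x : X) : φ x + φ (ng x) = 0 := by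
  have h1 := mem_perp.1 h (ev x) (Submodule.mem_sup_right (Submodule.mem_sup_right (Submodule.subset_span ⟨x, rfl⟩)))
  rw [← h1]
  unfold ev
  simp only [mul_add, mul_ite, mul_one, mul_zero, Finset.sum_add_distrib]
  have h2 : ∀ z : X, ∑ y, (if y = z then φ y else 0) = φ z := by
    intro z
    rw [Finset.sum_eq_single z]
    · rw [if_pos rfl]
    · intro y _ hy
      rw [if_neg hy]
    · intro h
      exact absurd (Finset.mem_univ z) h
  rw [h2, h2]

theorem mom_of_mem {φ : X → ℂ} (h : φ ∈ V) {k : ℕ} (hk : k = 1 ∨ k = 3) : ∑ x, φ x * ((tt x : ℤ) : ℂ) ^ k = 0 := by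
  have h1 : (fun x => (∑ j, toC b0 j * co x j) ^ k * (∑ j, toC b0 j * co x j) ^ (k - k)) ∈ Pol co k :=
    pow_mem co (toC b0) (toC b0) le_rfl
  have h2 : (fun x => (∑ j, toC b0 j * co x j) ^ k * (∑ j, toC b0 j * co x j) ^ (k - k)) =
      fun x => ((tt x : ℤ) : ℂ) ^ k := by
    funext x
    rw [Nat.sub_self, pow_zero, mul_one, sum_co]
  rw [h2] at h1
  refine mem_perp.1 h (fun x => ((tt x : ℤ) : ℂ) ^ k) ?_
  rcases hk with rfl | rfl
  · exact Submodule.mem_sup_left h1
  · exact Submodule.mem_sup_right (Submodule.mem_sup_left h1)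

theorem smul_of_Rc {x y : X} (h : Rc x.1 y.1) : ∃ γ ∈ MulAction.stabilizer Spor.Co2 x₀, γ • x = y := by
  obtain ⟨g, h1, h2, h3⟩ := h
  exact ⟨ofCo0 g h1, Subtype.ext h2, Subtype.ext h3⟩

theorem const_of_inv {φ : X → ℂ} (hφ : φ ∈ V) (hK : ∀ γ ∈ MulAction.stabilizer Spor.Co2 x₀, ∀ x, φ (γ • x) = φ x)
    {x y : X} (h : tt x = tt y) : φ x = φ y := by
  have hR : ∀ x y : X, Rc x.1 y.1 → φ x = φ y := by
    intro x y h
    obtain ⟨γ, hγ, rfl⟩ := smul_of_Rc h
    exact (hK γ hγ x).symm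
  have hneg : ∀ x y : X, φ (ng x) = φ (ng y) → φ x = φ y := by
    intro x y h
    have h1 := odd_of_mem hφ x
    have h2 := odd_of_mem hφ y
    rw [h] at h1
    linear_combination h1 - h2
  have hz : ∀ x : X, tt x = 0 → φ x = 0 := by
    intro x hx
    obtain ⟨g, g1, g2, g3⟩ := exists_neg x.2.1 x.2.2 hx
    have h1 := hR x (ng x) ⟨g, g1, g2, g3⟩
    have h2 := odd_of_mem hφ x
    rw [← h1] at h2
    linear_combination h2 / 2
  rcases tt_cases x with h' | h' | h' | h' | h' | h' | h'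
  · rcases tt_cases y with h1 | h1 | h1 | h1 | h1 | h1 | h1
    · rw [h'.2, h1.2]
    all_goals omega
  · rcases tt_cases y with h1 | h1 | h1 | h1 | h1 | h1 | h1
    · omega
    · rw [h'.2, h1.2]
    all_goals omega
  · exact hR x y (trans16 x.2.1 x.2.2 h' y.2.1 y.2.2 (h.symm.trans h'))
  · have hy : tt y = -16 := h.symm.trans h'
    have hx1 : tt (ng x) = 16 := by rw [tt_ng, h']; norm_num
    have hy1 : tt (ng y) = 16 := by rw [tt_ng, hy]; norm_num
    exact hneg x y (hR _ _ (trans16 (ng x).2.1 (ng x).2.2 hx1 (ng y).2.1 (ng y).2.2 hy1))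
  · exact hR x y (trans8 x.2.1 x.2.2 h' y.2.1 y.2.2 (h.symm.trans h'))
  · have hy : tt y = -8 := h.symm.trans h'
    have hx1 : tt (ng x) = 8 := by rw [tt_ng, h']; norm_num
    have hy1 : tt (ng y) = 8 := by rw [tt_ng, hy]; norm_num
    exact hneg x y (hR _ _ (trans8 (ng x).2.1 (ng x).2.2 hx1 (ng y).2.1 (ng y).2.2 hy1))
  · rw [hz x h', hz y (h.symm.trans h')]

theorem cls_ng : ∀ j, ∃ x : X, cls x = j := by
  classical
  intro j
  have h1 := card_cls j
  have key : ∀ j, 0 < N j := by decide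
  have h2 := key j
  rw [← h1, Finset.card_pos] at h2
  obtain ⟨x, hx⟩ := h2
  exact ⟨x, (Finset.mem_filter.1 hx).2⟩

/-- The class of the negative. -/
def op : Fin 7 → Fin 7 := ![1, 0, 3, 2, 5, 4, 6]

theorem cls_op (x : X) : cls (ng x) = op (cls x) := by
  rw [cls_eq_iff, tt_ng, tt_eq]
  generalize cls x = j
  revert j
  decide

/-- The conditions. -/
def R : Fin 6 → Fin 7 → ℚ := ![![1, 1, 0, 0, 0, 0, 0], ![0, 0, 1, 1, 0, 0, 0], ![0, 0, 0, 0, 1, 1, 0],
  ![0, 0, 0, 0, 0, 0, 1], ![4, -4, 4928, -4928, 22528, -22528, 0], ![64, -64, 19712, -19712, 22528, -22528, 0]]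

/-- The spherical function. -/
def av : Fin 7 → ℚ := ![1, -1, -5/1232, 5/1232, 1/1408, -1/1408, 0]

/-- The certificate. -/
def L : Fin 7 → Fin 6 → ℚ := ![![0, 0, 0, 0, 0, 0], ![1, 0, 0, 0, 0, 0],
  ![5/2464, 1/2, 0, 0, -1/29568, 1/29568], ![-5/2464, 1/2, 0, 0, 1/29568, -1/29568],
  ![-1/2816, 0, 1/2, 0, 1/33792, -1/135168], ![1/2816, 0, 1/2, 0, -1/33792, 1/135168],
  ![0, 0, 0, 1, 0, 0]]

theorem hR (a : Fin 7 → ℂ) (ha : (fun x => a (cls x)) ∈ V) (i : Fin 6) : ∑ j, (R i j : ℂ) * a j = 0 := by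
  have hodd : ∀ j, a j + a (op j) = 0 := by
    intro j
    obtain ⟨x, rfl⟩ := cls_ng j
    rw [← cls_op]
    exact odd_of_mem ha x
  have hmom : ∀ k, (k = 1 ∨ k = 3) → ∑ j, (N j : ℂ) * (a j * ((tv j : ℤ) : ℂ) ^ k) = 0 := by
    intro k hk
    have h1 := mom_of_mem ha hk
    simp only [tt_eq] at h1
    rw [sum_cls (fun j => a j * ((tv j : ℤ) : ℂ) ^ k)] at h1
    rw [← h1]
    refine Finset.sum_congr rfl fun j _ => ?_
    rw [card_cls, nsmul_eq_mul]
  have o0 : a 0 + a 1 = 0 := hodd 0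
  have o2 : a 2 + a 3 = 0 := hodd 2
  have o4 : a 4 + a 5 = 0 := hodd 4
  have o6 : a 6 + a 6 = 0 := hodd 6
  have m1 := hmom 1 (Or.inl rfl)
  have m3 := hmom 3 (Or.inr rfl)
  rw [Fin.sum_univ_seven] at m1 m3 ⊢
  have e0 : (N 0 : ℂ) = 1 ∧ ((tv 0 : ℤ) : ℂ) = 32 := by
    have h1 : N 0 = 1 := by decide
    have h2 : tv 0 = 32 := by decide
    rw [h1, h2]
    norm_num
  have e1 : (N 1 : ℂ) = 1 ∧ ((tv 1 : ℤ) : ℂ) = -32 := by
    have h1 : N 1 = 1 := by decide
    have h2 : tv 1 = -32 := by decide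
    rw [h1, h2]
    norm_num
  have e2 : (N 2 : ℂ) = 2464 ∧ ((tv 2 : ℤ) : ℂ) = 16 := by
    have h1 : N 2 = 2464 := by decide
    have h2 : tv 2 = 16 := by decide
    rw [h1, h2]
    norm_num
  have e3 : (N 3 : ℂ) = 2464 ∧ ((tv 3 : ℤ) : ℂ) = -16 := by
    have h1 : N 3 = 2464 := by decide
    have h2 : tv 3 = -16 := by decide
    rw [h1, h2]
    norm_num
  have e4 : (N 4 : ℂ) = 22528 ∧ ((tv 4 : ℤ) : ℂ) = 8 := by
    have h1 : N 4 = 22528 := by decide
    have h2 : tv 4 = 8 := by decide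
    rw [h1, h2]
    norm_num
  have e5 : (N 5 : ℂ) = 22528 ∧ ((tv 5 : ℤ) : ℂ) = -8 := by
    have h1 : N 5 = 22528 := by decide
    have h2 : tv 5 = -8 := by decide
    rw [h1, h2]
    norm_num
  have e6 : (N 6 : ℂ) = 43164 ∧ ((tv 6 : ℤ) : ℂ) = 0 := by
    have h1 : N 6 = 43164 := by decide
    have h2 : tv 6 = 0 := by decide
    rw [h1, h2]
    norm_num
  rw [e0.1, e0.2, e1.1, e1.2, e2.1, e2.2, e3.1, e3.2, e4.1, e4.2, e5.1, e5.2, e6.1, e6.2] at m1 m3
  fin_cases i
  · show ((R 0 0 : ℚ) : ℂ) * a 0 + ((R 0 1 : ℚ) : ℂ) * a 1 + ((R 0 2 : ℚ) : ℂ) * a 2 + ((R 0 3 : ℚ) : ℂ) * a 3 + ((R 0 4 : ℚ) : ℂ) * a 4 + ((R 0 5 : ℚ) : ℂ) * a 5 + ((R 0 6 : ℚ) : ℂ) * a 6 = 0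
    have r0 : R 0 0 = 1 := by decide +kernel
    have r1 : R 0 1 = 1 := by decide +kernel
    have r2 : R 0 2 = 0 := by decide +kernel
    have r3 : R 0 3 = 0 := by decide +kernel
    have r4 : R 0 4 = 0 := by decide +kernel
    have r5 : R 0 5 = 0 := by decide +kernel
    have r6 : R 0 6 = 0 := by decide +kernel
    rw [r0, r1, r2, r3, r4, r5, r6]
    push_cast
    linear_combination o0
  · show ((R 1 0 : ℚ) : ℂ) * a 0 + ((R 1 1 : ℚ) : ℂ) * a 1 + ((R 1 2 : ℚ) : ℂ) * a 2 + ((R 1 3 : ℚ) : ℂ) * a 3 + ((R 1 4 : ℚ) : ℂ) * a 4 + ((R 1 5 : ℚ) : ℂ) * a 5 + ((R 1 6 : ℚ) : ℂ) * a 6 = 0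
    have r0 : R 1 0 = 0 := by decide +kernel
    have r1 : R 1 1 = 0 := by decide +kernel
    have r2 : R 1 2 = 1 := by decide +kernel
    have r3 : R 1 3 = 1 := by decide +kernel
    have r4 : R 1 4 = 0 := by decide +kernel
    have r5 : R 1 5 = 0 := by decide +kernel
    have r6 : R 1 6 = 0 := by decide +kernel
    rw [r0, r1, r2, r3, r4, r5, r6]
    push_cast
    linear_combination o2
  · show ((R 2 0 : ℚ) : ℂ) * a 0 + ((R 2 1 : ℚ) : ℂ) * a 1 + ((R 2 2 : ℚ) : ℂ) * a 2 + ((R 2 3 : ℚ) : ℂ) * a 3 + ((R 2 4 : ℚ) : ℂ) * a 4 + ((R 2 5 : ℚ) : ℂ) * a 5 + ((R 2 6 : ℚ) : ℂ) * a 6 = 0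
    have r0 : R 2 0 = 0 := by decide +kernel
    have r1 : R 2 1 = 0 := by decide +kernel
    have r2 : R 2 2 = 0 := by decide +kernel
    have r3 : R 2 3 = 0 := by decide +kernel
    have r4 : R 2 4 = 1 := by decide +kernel
    have r5 : R 2 5 = 1 := by decide +kernel
    have r6 : R 2 6 = 0 := by decide +kernel
    rw [r0, r1, r2, r3, r4, r5, r6]
    push_cast
    linear_combination o4
  · show ((R 3 0 : ℚ) : ℂ) * a 0 + ((R 3 1 : ℚ) : ℂ) * a 1 + ((R 3 2 : ℚ) : ℂ) * a 2 + ((R 3 3 : ℚ) : ℂ) * a 3 + ((R 3 4 : ℚ) : ℂ) * a 4 + ((R 3 5 : ℚ) : ℂ) * a 5 + ((R 3 6 : ℚ) : ℂ) * a 6 = 0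
    have r0 : R 3 0 = 0 := by decide +kernel
    have r1 : R 3 1 = 0 := by decide +kernel
    have r2 : R 3 2 = 0 := by decide +kernel
    have r3 : R 3 3 = 0 := by decide +kernel
    have r4 : R 3 4 = 0 := by decide +kernel
    have r5 : R 3 5 = 0 := by decide +kernel
    have r6 : R 3 6 = 1 := by decide +kernel
    rw [r0, r1, r2, r3, r4, r5, r6]
    push_cast
    linear_combination o6 / 2
  · show ((R 4 0 : ℚ) : ℂ) * a 0 + ((R 4 1 : ℚ) : ℂ) * a 1 + ((R 4 2 : ℚ) : ℂ) * a 2 + ((R 4 3 : ℚ) : ℂ) * a 3 + ((R 4 4 : ℚ) : ℂ) * a 4 + ((R 4 5 : ℚ) : ℂ) * a 5 + ((R 4 6 : ℚ) : ℂ) * a 6 = 0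
    have r0 : R 4 0 = 4 := by decide +kernel
    have r1 : R 4 1 = -4 := by decide +kernel
    have r2 : R 4 2 = 4928 := by decide +kernel
    have r3 : R 4 3 = -4928 := by decide +kernel
    have r4 : R 4 4 = 22528 := by decide +kernel
    have r5 : R 4 5 = -22528 := by decide +kernel
    have r6 : R 4 6 = 0 := by decide +kernel
    rw [r0, r1, r2, r3, r4, r5, r6]
    push_cast
    linear_combination m1 / 8
  · show ((R 5 0 : ℚ) : ℂ) * a 0 + ((R 5 1 : ℚ) : ℂ) * a 1 + ((R 5 2 : ℚ) : ℂ) * a 2 + ((R 5 3 : ℚ) : ℂ) * a 3 + ((R 5 4 : ℚ) : ℂ) * a 4 + ((R 5 5 : ℚ) : ℂ) * a 5 + ((R 5 6 : ℚ) : ℂ) * a 6 = 0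
    have r0 : R 5 0 = 64 := by decide +kernel
    have r1 : R 5 1 = -64 := by decide +kernel
    have r2 : R 5 2 = 19712 := by decide +kernel
    have r3 : R 5 3 = -19712 := by decide +kernel
    have r4 : R 5 4 = 22528 := by decide +kernel
    have r5 : R 5 5 = -22528 := by decide +kernel
    have r6 : R 5 6 = 0 := by decide +kernel
    rw [r0, r1, r2, r3, r4, r5, r6]
    push_cast
    linear_combination m3 / 512

/-- **An irreducible character of degree `44275`.** -/
theorem exists_44275 : ∃ χ : IrrCharacter Spor.Co2, charDegree (χ : Spor.Co2 → ℂ) = 44275 := by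
  classical
  have : Finite Spor.Co2 := Cfsg.Agent.Co2Type.CardCo2.finite_co2
  refine (exists_of_classes V_inv V_ne x₀ (MulAction.stabilizer Spor.Co2 x₀) (fun _ h => h) cls N card_cls ?_ R hR av L 0
    ?_ ?_ ?_ 44275 ?_).1
  · intro φ hφ hK
    have h1 : Function.FactorsThrough φ cls := by
      intro x y h
      refine const_of_inv hφ hK ?_
      rw [tt_eq, tt_eq, h]
    refine ⟨Function.extend cls φ 0, funext fun x => ?_⟩
    exact (h1.extend_apply 0 x).symm
  · rw [cls_eq_iff]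
    exact dt_b0_b0
  · decide +kernel
  · rfl
  · rw [card_X]
    decide +kernel

end Cfsg.Agent.H714.DG.CoTwoX
end
end
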